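import Mathlib
import Cfsg.Agent.Base
import Cfsg.Agent.Lib.SpX.Ev
import Cfsg.Agent.Lib.RV.Hs

/-!
Saturated fusion over the Heisenberg group: the outer automizer `WW`, the radical lines `Rd`, and the
comparison of two systems with the same data.
-/

set_option autoImplicit false

namespace H39.RV

open Subgroup Matrix Cfsg Cfsg.FusionSystem H93.SX H90
open scoped commutatorElement MatrixGroups

universe u

section Defs

variable {K : Type*} [Field K] {Γ : Type u} [Group Γ] {ι : Hs K →* Γ} {v v' : Fin 2 → K}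
  {M N A : GL (Fin 2) K} {g : Γ}

variable (ι) in
/-- The matrices induced on the whole group. -/
def WW : Subgroup (GL (Fin 2) K) where
  carrier := {M | ∃ g, ∀ x, Cj ι g x (act M x)}
  one_mem' := ⟨1, fun x => by rw [act_one]; exact .one⟩
  mul_mem' := fun ⟨g, a⟩ ⟨h, b⟩ => ⟨g * h, fun x => by rw [act_mul]; exact (a _).trans (b x)⟩
  inv_mem' := fun {M} ⟨g, a⟩ => ⟨g⁻¹, fun x => by have := (a (act M⁻¹ x)).symm; rwa [act_inv'] at this⟩

variable (ι v) in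
/-- The matrices induced on a plane. -/
def UU : Subgroup (GL (Fin 2) K) where
  carrier := {A | ∃ g, ∀ w, Cj ι g (pl v w) (pl v (A • w))}
  one_mem' := ⟨1, fun x => by rw [one_smul]; exact .one⟩
  mul_mem' := fun ⟨g, a⟩ ⟨h, b⟩ => ⟨g * h, fun x => by rw [mul_smul]; exact (a _).trans (b x)⟩
  inv_mem' := fun {M} ⟨g, a⟩ => ⟨g⁻¹, fun x => by have := (a (M⁻¹ • x)).symm; rwa [smul_inv_smul] at this⟩

variable (ι v) in
/-- The centre is moved inside the plane over `v`. -/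
def Rd : Prop := v ≠ 0 ∧ ∃ A ∈ UU ι v, A.1 0 1 ≠ 0

theorem act_pl (M : GL (Fin 2) K) (v w : Fin 2 → K) :
    act M (pl v w) = pl (M • v) (dg 1 M.1.det (by rw [one_mul, det_fin_two]; exact det_ne M) • w) :=
  Hs.ext (by simp only [act_apply, pl, dg_smul, one_mul]; exact smul_comm _ _ _) (by simp [act_apply, pl, dg_val])

theorem conj_ne {a b : K} (h : a * b ≠ 0) (hA : A.1 0 1 ≠ 0) : (dg a b h * A * (dg a b h)⁻¹).1 0 1 ≠ 0 :=
  fun e => by
    have := gl_mul (dg a b h * A * (dg a b h)⁻¹) (dg a b h) 0 1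
    rw [inv_mul_cancel_right, e, gl_mul] at this
    simp only [dg_val, ent, mul_zero, zero_mul, add_zero] at this
    exact mul_ne_zero (left_ne_zero_of_mul h) hA this

theorem Rd.of {Γ' : Type*} [Group Γ'] {ψ : Hs K →* Γ'} (h : Rd ι v) (h0 : v' ≠ 0) {a b : K} (d : a * b ≠ 0)
    (e : ∀ g, ∃ k, ∀ w u, Cj ι g (pl v w) (pl v u) → Cj ψ k (pl v' (dg a b d • w)) (pl v' (dg a b d • u))) :
    Rd ψ v' := by
  obtain ⟨-, A, ⟨g, hg⟩, h1⟩ := h
  obtain ⟨k, hk⟩ := e g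
  refine ⟨h0, _, ⟨k, fun w => ?_⟩, conj_ne d h1⟩
  have := hk _ _ (hg ((dg a b d)⁻¹ • w))
  rwa [smul_inv_smul, ← mul_smul, ← mul_smul] at this

theorem mem_WW_comp : M ∈ WW (ι.comp (act N).toMonoidHom) ↔ N * M * N⁻¹ ∈ WW ι :=
  exists_congr fun g => ⟨fun h x => by
    have := Cj.comp.1 (h (act N⁻¹ x))
    simpa only [MulEquiv.coe_toMonoidHom, act_inv', act_mul] using this, fun h x => Cj.comp.2 (by
      simpa only [MulEquiv.coe_toMonoidHom, act_inv, act_mul] using h (act N x))⟩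

theorem Rd.comp (h : Rd (ι.comp (act N).toMonoidHom) v) : Rd ι (N • v) :=
  h.of (mt (smul_eq_zero_iff_eq N).1 h.1) _ fun g => ⟨g, fun w u e => by
    rw [← act_pl, ← act_pl]; exact e⟩

theorem rd_comp : Rd (ι.comp (act N).toMonoidHom) v ↔ Rd ι (N • v) := ⟨Rd.comp, fun h => by
  have e : (ι.comp (act N).toMonoidHom).comp (act N⁻¹).toMonoidHom = ι :=
    MonoidHom.ext fun x => congrArg ι (act_inv' N x)
  have := Rd.comp (N := N⁻¹) (e.symm ▸ h)
  rwa [inv_smul_smul] at this⟩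

theorem Rd.gl (h : Rd ι v) (hM : M ∈ WW ι) : Rd ι (M • v) :=
  let ⟨k, hk⟩ := hM
  h.of (mt (smul_eq_zero_iff_eq M).1 h.1) _ fun g => ⟨k * g * k⁻¹, fun w u e => by
    rw [← act_pl, ← act_pl]; exact ((hk _).trans e).trans (hk _).symm⟩

theorem Rd.smul (h : Rd ι v) {a : K} (ha : a ≠ 0) : Rd ι (a • v) :=
  h.of (a := a⁻¹) (b := 1) (smul_ne_zero ha h.1) (by simpa) fun g => ⟨g, fun w u e => by
    have : ∀ w, pl (a • v) (dg a⁻¹ 1 (by simpa) • w) = pl v w := fun w =>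
      Hs.ext (by simp [pl, dg_val, smul_smul, mul_right_comm, ha]) (by simp [pl, dg_val])
    rwa [this, this]⟩

theorem lo_mem (h2 : (2 : K) ≠ 0) (h : v ≠ 0) (r : K) : lo r ∈ UU ι v := by
  obtain ⟨t, ht⟩ := exists_om h (r / 2)
  refine ⟨ι ⟨t, 0⟩, fun w => ?_⟩
  convert Cj.self (ι := ι) ⟨t, 0⟩ (pl v w) using 1
  rw [conj_eq]
  refine Hs.ext (by simp [pl, sm0, lo_val]) ?_
  have := om_smul 1 (w 0) t v
  simp only [one_smul, ht] at this
  simp only [pl, sm1, lo_val, ent, this]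
  field_simp; ring

theorem Rd.sl (h2 : (2 : K) ≠ 0) (h : Rd ι v) (hA : A.1.det = 1) : A ∈ UU ι v :=
  let ⟨h0, _, a, b⟩ := h; mem_of_det (lo_mem h2 h0) a b hA

theorem seV (v : Fin 2 → K) : Se (VV v) (ZZ K) ⊥ ⊥ :=
  ⟨fun x hx => by rw [mem_VV, mem_ZZ.1 hx, om_zero], bot_le, le_rfl, fun t x _ => by rw [comm_eq]; rfl,
    fun t x hx => by rw [comm_eq, mem_ZZ.1 hx, om_zero, mul_zero]; rfl, fun t x hx => by simp [mem_bot.1 hx],
    fun t x hx => by simp [mem_bot.1 hx]⟩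

theorem seT (v : Fin 2 → K) : Se ⊤ (VV v) (ZZ K) ⊥ :=
  ⟨le_top, (seV v).a, bot_le, fun t x _ => (seV v).a ((seV x.v).e1 t x (om_self _)), (seV v).e1, (seV v).e2,
    (seV v).e4⟩

theorem cj_one (i : Function.Injective ι) {x : Hs K} (e : Cj ι g x 1) : x = 1 :=
  e.symm.uniq i (by simp [Cj]) 

variable [Finite Γ]

theorem nr_VV (h : v ≠ 0) (e : ∀ w, Cj ι g (pl v w) (pl v (A • w))) : g ∈ nr ι (VV v) :=
  mem_nr fun _ hx => let ⟨w, e'⟩ := exists_pl h hx; ⟨_, pl_mem _ _, e' ▸ e w⟩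

theorem nr_ZZ (e : ∀ w, Cj ι g (pl v w) (pl v (A • w))) (h : A.1 0 1 = 0) : g ∈ nr ι (ZZ K) :=
  mem_nr fun x hx => ⟨pl v (A • ![0, x.c]), by simp [mem_ZZ, pl, sm0, h], by
    have := e ![0, x.c]
    rwa [show pl v ![0, x.c] = x from Hs.ext (by simp [pl, mem_ZZ.1 hx]) rfl] at this⟩

end Defs

variable {p : ℕ} [hp : Fact p.Prime] {Γ : Type u} {Γ' : Type*} [Group Γ] [Group Γ']
  {ι : Hs (ZMod p) →* Γ} {ψ : Hs (ZMod p) →* Γ'} {v : Fin 2 → ZMod p} {M A : GL (Fin 2) (ZMod p)} {g : Γ}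
  {E : Subgroup (Hs (ZMod p))}

theorem cj_all (h2 : (2 : ZMod p) ≠ 0) (φ : Hs (ZMod p) →* Hs (ZMod p))
    (a : Cj ι g ⟨![1, 0], 0⟩ (φ ⟨![1, 0], 0⟩)) (b : Cj ι g ⟨![0, 1], 0⟩ (φ ⟨![0, 1], 0⟩)) (x : Hs (ZMod p)) :
    Cj ι g x (φ x) :=
  (eq_top_of h2 (E := MonoidHom.eqLocus ((MulAut.conj g).toMonoidHom.comp ι) (ι.comp φ)) a b
    (by simp [om])).ge (mem_top x)

theorem top (h2 : (2 : ZMod p) ≠ 0) (i : Function.Injective ι) (hg : g ∈ nr ι ⊤) :
    ∃ M ∈ WW ι, ∃ t, ∀ x, Cj ι g x (t * act M x * t⁻¹) := by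
  obtain ⟨a, -, ha⟩ := nr_cj hg (mem_top ⟨![1, 0], 0⟩)
  obtain ⟨b, -, hb⟩ := nr_cj hg (mem_top ⟨![0, 1], 0⟩)
  have h : om a.v b.v ≠ 0 := fun e => h2 (by
    have := ha.comm hb
    rw [comm_eq a, e, mul_zero, comm_eq] at this
    simpa [om] using congrArg Hs.c (cj_one i this))
  let s := cols a.v b.v h • ![b.c / (2 * om a.v b.v), -a.c / (2 * om a.v b.v)]
  have e0 : cols a.v b.v h • ![1, 0] = a.v := by rw [cols_smul]; simp
  have e1 : cols a.v b.v h • ![0, 1] = b.v := by rw [cols_smul]; simp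
  have k := cj_all (g := g) h2 ((MulAut.conj ⟨s, 0⟩).toMonoidHom.comp (act (cols a.v b.v h)).toMonoidHom)
    (by
      convert ha using 1
      refine (conj_eq _ _).trans (Hs.ext e0 ?_)
      simp only [MulEquiv.coe_toMonoidHom, act_apply, s, om_gl, cols_det]
      simp [om] at h ⊢; field_simp)
    (by
      convert hb using 1
      refine (conj_eq _ _).trans (Hs.ext e1 ?_)
      simp only [MulEquiv.coe_toMonoidHom, act_apply, s, om_gl, cols_det]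
      simp [om] at h ⊢; field_simp)
  refine ⟨_, ⟨ι (⟨s, 0⟩ : Hs _)⁻¹ * g, fun x => ?_⟩, _, k⟩
  simpa [mul_assoc] using (Cj.self (ι := ι) (⟨s, 0⟩ : Hs _)⁻¹ _).trans (k x)

theorem plane (i : Function.Injective ι) (h : v ≠ 0) (hg : g ∈ nr ι (VV v)) :
    ∃ A : GL (Fin 2) (ZMod p), ∀ w, Cj ι g (pl v w) (pl v (A • w)) := by
  obtain ⟨_, ha', ha⟩ := nr_cj hg (pl_mem v ![1, 0])
  obtain ⟨_, hb', hb⟩ := nr_cj hg (pl_mem v ![0, 1])
  obtain ⟨a, rfl⟩ := exists_pl h ha'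
  obtain ⟨b, rfl⟩ := exists_pl h hb'
  have k : ∀ w, Cj ι g (pl v w) (pl v (w 0 • a + w 1 • b)) := fun w => by
    have := (ha.pow (w 0).val).mul (hb.pow (w 1).val)
    simp only [pl_pow, ← pl_add, ZMod.natCast_zmod_val] at this
    convert this using 2
    exact vec_ext (by simp) (by simp)
  have z : ∀ w : Fin 2 → ZMod p, w 0 • a + w 1 • b = 0 → w = 0 := fun w e => by
    have e0 : pl v 0 = 1 := Hs.ext (zero_smul _ _) rfl
    exact pl_inj h ((cj_one i (e0 ▸ e ▸ k w)).trans e0.symm)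
  refine ⟨cols a b fun e => ?_, fun w => by rw [cols_smul]; exact k w⟩
  obtain ⟨s, rfl⟩ := exists_smul (fun e => by simpa using congrFun (z ![1, 0] (by simp [e])) 0) e
  simpa using congrFun (z ![s, -1] (by simp)) 1

theorem eqv_top (h2 : (2 : ZMod p) ≠ 0) (i : Function.Injective ι) (h : WW ι ≤ WW ψ) (hg : g ∈ nr ι ⊤) :
    ∃ k, ∀ x y, Cj ι g x y → Cj ψ k x y := by
  obtain ⟨M, hM, t, e⟩ := top h2 i hg
  obtain ⟨k, hk⟩ := h hM
  exact ⟨ψ t * k, fun x y a => (e x).uniq i a ▸ (Cj.self t _).trans (hk x)⟩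

variable [Finite Γ] (h2 : (2 : ZMod p) ≠ 0) (F : Cf p ι)
include h2 F

omit h2 in
theorem ext (h : v ≠ 0) (hA : A ∈ UU ι v) (h0 : A.1 0 1 = 0) :
    ∃ k ∈ nr ι ⊤, ∀ w, Cj ι k (pl v w) (pl v (A • w)) := by
  obtain ⟨g, e⟩ := hA
  obtain ⟨k, hk, a⟩ := (seV v).ext F (nr_VV h e) (nr_ZZ e h0) nr_bot nr_bot
  exact ⟨k, hk.2, fun w => a _ (pl_mem _ _) _ (e w)⟩

theorem dat : Dat (WW ι) (Rd ι) where
  un M := fun ⟨g, e⟩ v h0 h1 h3 => by
    obtain ⟨t, ht⟩ := (seT v).inner F (g := g) (mem_ch le_top (seV v).a bot_le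
      (fun x _ => ⟨_, e x, by
        have := om_gl M v x.v
        rw [h1, h3] at this
        simp only [mem_VV, act_apply, mul_v, inv_v, om, Pi.add_apply, Pi.neg_apply] at this ⊢
        linear_combination this⟩)
      (fun x hx => ⟨_, e x, by
        obtain ⟨a, ha⟩ := exists_smul h0 hx
        simp [mem_ZZ, act_apply, ha, smul_comm M a, h1]⟩)
      (fun x hx => ⟨_, e x, mem_bot.2 (mul_inv_eq_one.2 (Hs.ext (by simp [act_apply, mem_ZZ.1 hx])
        (by simp [act_apply, h3])))⟩) fun x hx => by simp [mem_bot.1 hx, Cj])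
    have k : ∀ w, M • w = w := fun w => by
      have := congrArg Hs.v ((e ⟨w, 0⟩).uniq F.inj (ht _ (mem_top _)))
      rwa [conj_eq] at this
    have k0 := k ![1, 0]
    have k1 := k ![0, 1]
    exact gl_ext (by simpa [sm0] using congrFun k0 0) (by simpa [sm0] using congrFun k1 0)
      (by simpa [sm1] using congrFun k0 1) (by simpa [sm1] using congrFun k1 1)
  ne _ h := h.1
  inv _ hM _ h := h.gl hM
  smul _ ha _ h := h.smul ha
  tor v h l hl := by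
    obtain ⟨k, hk, e⟩ := ext F h.1 (h.sl h2 (A := dg l⁻¹ l (by simp [hl])) (by simp [dg_det, hl])) rfl
    obtain ⟨M, hM, t, a⟩ := top h2 F.inj hk
    have a0 := congrArg Hs.v ((a _).uniq F.inj (e ![1, 0]))
    have a1 := congrArg Hs.c ((a _).uniq F.inj (e ![0, 1]))
    exact ⟨M, hM, by simpa [conj_eq, act_apply, pl, dg_val] using a0,
      by simpa [conj_eq, act_apply, pl, dg_val] using a1⟩

theorem es_eq (h : Es p ι E) : ∃ v, Rd ι v ∧ E = VV v := by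
  obtain ⟨x, hx, h0⟩ : ∃ x ∈ E, x.v ≠ 0 := by
    by_contra! e
    exact h.ne F (eq_top_iff.2 fun t _ => h.cent F fun x hx => by rw [comm_eq, e x hx, om_zero, mul_zero]; rfl)
  have e1 : E ≤ VV x.v := fun y hy => by_contra fun e => h.ne F (eq_top_of h2 hx hy e)
  obtain rfl : E = VV x.v := le_antisymm e1 fun t ht => h.cent F fun y hy => by
    obtain ⟨a, ha⟩ := exists_smul h0 ht
    obtain ⟨b, hb⟩ := exists_smul h0 (e1 hy)
    rw [comm_eq, ha, hb, om_smul, om_self, mul_zero, mul_zero]; rfl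
  refine ⟨_, by_contra fun e => (seV _).not F h (fun g hg => ?_) (fun _ _ => nr_bot) fun _ _ => nr_bot, rfl⟩
  obtain ⟨A, a⟩ := plane F.inj h0 hg
  exact nr_ZZ a (by_contra fun e' => e ⟨h0, A, ⟨g, a⟩, e'⟩)

theorem UU_le (hW : WW ι ≤ WW ψ) (hR : Rd ι v → Rd ψ v) (h : v ≠ 0) : UU ι v ≤ UU ψ v := by
  have key : ∀ A ∈ UU ι v, A.1 0 1 = 0 → A ∈ UU ψ v := fun A hA h0 => by
    obtain ⟨k, hk, e⟩ := ext F h hA h0
    obtain ⟨l, hl⟩ := eqv_top h2 F.inj hW hk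
    exact ⟨l, fun w => hl _ _ (e w)⟩
  intro A hA
  by_cases h0 : A.1 0 1 = 0
  · exact key A hA h0
  have r : Rd ι v := ⟨h, A, hA, h0⟩
  have d : 1 * A.1.det ≠ 0 := by rw [one_mul, det_fin_two]; exact det_ne A
  have e : (A * (dg 1 _ d)⁻¹).1.det = 1 := by
    have := det_inv (dg 1 _ d)
    rwa [dg_det, one_mul, mul_comm, ← det_mul'] at this
  have := mul_mem ((hR r).sl h2 e) (key (dg 1 _ d) ((mul_mem_cancel_left (r.sl h2 e)).1 (by simpa)) rfl)
  simpa using this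

theorem eqv_of (hW : WW ι ≤ WW ψ) (hR : ∀ v, Rd ι v → Rd ψ v) (hE : E = ⊤ ∨ ∃ v, v ≠ 0 ∧ E = VV v) :
    Eqv ι ψ E := fun g hg => by
  rcases hE with rfl | ⟨v, h, rfl⟩
  · obtain ⟨k, e⟩ := eqv_top h2 F.inj hW (mem_nr hg)
    exact ⟨k, fun x _ y _ => e x y⟩
  · obtain ⟨A, a⟩ := plane F.inj h (mem_nr hg)
    obtain ⟨k, e⟩ := UU_le h2 F hW (hR v) h ⟨g, a⟩
    refine ⟨k, fun x hx y _ b => ?_⟩
    obtain ⟨w, rfl⟩ := exists_pl h hx
    exact (a w).uniq F.inj b ▸ e w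

omit h2 F in
theorem cf_of (i : Function.Injective ι) (T : Sylow p Γ) (hT : (T : Subgroup Γ) = ι.range) : Cf p ι :=
  ⟨i, pg_Hs, hT ▸ H93.isSaturated_groupFusionSystem T⟩

theorem real [Finite Γ'] (i : Function.Injective ψ) (T : Sylow p Γ') (hT : (T : Subgroup Γ') = ψ.range)
    (hW : WW ι = WW ψ) (hR : ∀ v, Rd ι v ↔ Rd ψ v) : (groupFusionSystem ι.range).IsRealizable p := by
  have F' := cf_of i T hT
  refine real_of_eqv F F' T hT fun E hE => ?_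
  have : E = ⊤ ∨ ∃ v, v ≠ 0 ∧ E = VV v := hE.imp_right fun e => e.elim
    (fun e => let ⟨v, a, b⟩ := es_eq h2 F e; ⟨v, a.1, b⟩) fun e => let ⟨v, a, b⟩ := es_eq h2 F' e; ⟨v, a.1, b⟩
  exact ⟨eqv_of h2 F hW.le (fun v => (hR v).1) this, eqv_of h2 F' hW.ge (fun v => (hR v).2) this⟩

theorem real' [Finite Γ'] (i : Function.Injective ψ) (T : Sylow p Γ') (hT : (T : Subgroup Γ') = ψ.range)
    (N N' : GL (Fin 2) (ZMod p)) (hW : ∀ M, N * M * N⁻¹ ∈ WW ι ↔ N' * M * N'⁻¹ ∈ WW ψ)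
    (hR : ∀ v, Rd ι (N • v) ↔ Rd ψ (N' • v)) : (groupFusionSystem ι.range).IsRealizable p := by
  rw [← range_comp (act N)]
  exact real h2 (F.comp _) (ψ := ψ.comp (act N').toMonoidHom) (i.comp (act N').injective) T
    (hT.trans (range_comp _).symm) (Subgroup.ext fun M => by rw [mem_WW_comp, mem_WW_comp, hW])
    fun v => by rw [rd_comp, rd_comp, hR]

theorem real_one (h : ∀ u v, Rd ι u → Rd ι v → om u v = 0) : (groupFusionSystem ι.range).IsRealizable p :=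
  F.real_of_uniq fun E E' a b => by
    obtain ⟨u, a1, rfl⟩ := es_eq h2 F a
    obtain ⟨v, b1, rfl⟩ := es_eq h2 F b
    obtain ⟨s, rfl⟩ := exists_smul a1.1 (h u v a1 b1)
    ext x
    have := om_smul s 1 u x.v
    rw [one_smul, mul_one] at this
    rw [mem_VV, mem_VV, this, mul_eq_zero_iff_left (left_ne_zero_of_smul b1.1)]

/-- A non-central element fused into the centre lies over a radical line. -/
theorem rd_of_cj {x y : Hs (ZMod p)} (e : Cj ι g x y) (h0 : x.v ≠ 0) (h1 : y.v = 0) : Rd ι x.v := by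
  obtain ⟨σ, hσ, e'⟩ := alperin_induction F.pr F.sat (P := (zpowers x).map ι) (f := cj g)
    (C := fun P σ => ∀ x y, ι x ∈ P → σ (ι x) = ι y → x.v ≠ 0 → ¬ Rd ι x.v → y.v ≠ 0 ∧ ¬ Rd ι y.v)
    (fun P R σ hR hσ hP x y hx e h0 h1 => by
      obtain ⟨g, hg, a⟩ := H93.R3.norm_of_iso hσ
      have h7 := map_comap_eq_self hσ.1.le
      rcases hR with rfl | hR
      · obtain ⟨M, hM, t, b⟩ := top h2 F.inj (g := g) (by rwa [nr_top])
        have c := congrArg Hs.v ((b x).uniq F.inj ((a _ (hP hx)).symm.trans e))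
        rw [conj_eq] at c
        exact c ▸ ⟨mt (smul_eq_zero_iff_eq M).1 h0, fun r => h1 (inv_smul_smul M x.v ▸ r.gl (inv_mem hM))⟩
      · obtain ⟨v, r, b⟩ := es_eq h2 F (E := R.comap ι) (by rwa [Es, h7])
        obtain ⟨s, c⟩ := exists_smul r.1 (b.le (hP hx))
        exact (h1 (c ▸ r.smul (left_ne_zero_of_smul (c ▸ h0)))).elim)
    (by
      rintro P Q σ τ hσ - a b m x y hx e h0 h1
      obtain ⟨z, hz⟩ := hσ.mem hx
      exact b z y (hz ▸ m _ hx) (hz ▸ e) (a x z hx hz.symm h0 h1).1 (a x z hx hz.symm h0 h1).2)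
    (map_group.2 ⟨map_le_range ι _, by
      rintro _ ⟨_, ⟨n, rfl⟩, rfl⟩
      exact ⟨y ^ n, by rw [cj_apply, map_zpow, map_zpow, ← conj_zpow, e]⟩, g, fun _ _ => rfl⟩)
  exact by_contra fun r => (hσ x y ⟨x, mem_zpowers x, rfl⟩ ((e' _ ⟨x, mem_zpowers x, rfl⟩).trans e) h0 r).1 h1

theorem eqns_Fus : True := by
  have := @WW.eq_1.{0, 0}
  have := @UU.eq_1.{0, 0}
  have := @Rd.eq_1.{0, 0}
  trivial

end H39.RV
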