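import Mathlib
import Cfsg.Agent.Base
import Cfsg.Agent.Lib.RV.Fus
import Cfsg.Agent.Lib.RV.Cls
import Cfsg.Agent.Lib.Fusion.Real2

/-!
Systems with exactly two radical lines are realized between `SL₃(p)` and `GL₃(p).2`.
-/

set_option autoImplicit false

namespace H39.RV

open Subgroup Matrix Cfsg H93.SX
open scoped MatrixGroups

section Field

variable {K : Type*} [Field K]

/-- The unitriangular matrices. -/
def ut : Hs K →* GL (Fin 3) K := MonoidHom.toHomUnits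
  { toFun x := !![1, 2 * x.v 0, x.c + x.v 0 * x.v 1; 0, 1, x.v 1; 0, 0, 1]
    map_one' := by ext i j; fin_cases i <;> fin_cases j <;> simp
    map_mul' x y := by
      ext i j; fin_cases i <;> fin_cases j <;> simp [Matrix.mul_apply, Fin.sum_univ_three, om] <;> ring }

theorem ut_val (x : Hs K) : (ut x).1 = !![1, 2 * x.v 0, x.c + x.v 0 * x.v 1; 0, 1, x.v 1; 0, 0, 1] := rfl

theorem ut_inj (h2 : (2 : K) ≠ 0) : Function.Injective (ut (K := K)) :=
  (injective_iff_map_eq_one _).2 fun x h => by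
    have e := fun i j => congrArg (fun g : GL (Fin 3) K => g.1 i j) h
    have e1 : x.v 0 = 0 := by simpa [ut_val, h2] using e 0 1
    exact Hs.ext (vec_ext e1 (by simpa [ut_val] using e 1 2)) (by simpa [ut_val, e1] using e 0 2)

/-- Reflection in the second diagonal. -/
def fl (m : Matrix (Fin 3) (Fin 3) K) : Matrix (Fin 3) (Fin 3) K := mᵀ.submatrix Fin.revPerm Fin.revPerm

theorem fl_mul (m n : Matrix (Fin 3) (Fin 3) K) : fl (m * n) = fl n * fl m := by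
  rw [fl, fl, fl, transpose_mul, submatrix_mul_equiv]

theorem fl_one : fl (1 : Matrix (Fin 3) (Fin 3) K) = 1 := by rw [fl, transpose_one, submatrix_one_equiv]

/-- The graph automorphism. -/
def gr : GL (Fin 3) K →* GL (Fin 3) K := MonoidHom.mk'
  (fun g => ⟨fl g⁻¹.1, fl g.1, by rw [← fl_mul, Units.mul_inv, fl_one], by rw [← fl_mul, Units.inv_mul, fl_one]⟩)
  fun a b => Units.ext (by simp only [_root_.mul_inv_rev, Units.val_mul, fl_mul])

theorem gr_val (g : GL (Fin 3) K) : (gr g).1 = fl g⁻¹.1 := rfl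

theorem gr_gr (g : GL (Fin 3) K) : gr (gr g) = g := Units.ext (by
  rw [gr_val, ← map_inv, gr_val, inv_inv]
  ext i j; simp [fl])

theorem gr_det {g : GL (Fin 3) K} (h : g.1.det = 1) : (gr g).1.det = 1 := by
  rw [gr_val, fl, det_submatrix_equiv_self, det_transpose, ← one_mul (det _)]
  exact h ▸ by rw [← det_mul, Units.mul_inv, det_one, h]

/-- The matrix of the graph automorphism. -/
def mg (h2 : (2 : K) ≠ 0) : GL (Fin 2) K := cols ![0, -2] ![-2⁻¹, 0] (by simp [om, h2])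

theorem gr_ut (h2 : (2 : K) ≠ 0) (x : Hs K) : gr (ut x) = ut (act (mg h2) x) := Units.ext (by
  rw [gr_val, ← map_inv, ut_val, ut_val, act_apply, mg, cols_smul, cols_det]
  ext i j; fin_cases i <;> fin_cases j <;> simp [fl, om, Fin.rev, h2] <;> field_simp <;> ring)

/-- Quadratic elements. -/
def Qd (g : GL (Fin 3) K) : Prop := g.1 + g⁻¹.1 = 1 + 1

theorem Qd.conj {g : GL (Fin 3) K} (h : Qd g) (k : GL (Fin 3) K) : Qd (k * g * k⁻¹) := by
  rw [Qd, conj_inv, Units.val_mul, Units.val_mul, Units.val_mul, Units.val_mul, ← add_mul, ← mul_add, h,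
    mul_add, add_mul, mul_one, Units.mul_inv]

theorem Qd.gr {g : GL (Fin 3) K} (h : Qd g) : Qd (gr g) := by
  rw [Qd, ← map_inv, gr_val, gr_val, inv_inv, ← fl_one, add_comm]
  exact congrArg fl h

theorem qd_ut (h2 : (2 : K) ≠ 0) {x : Hs K} : Qd (ut x) ↔ x.v 0 * x.v 1 = 0 := by
  rw [Qd, ← map_inv, ut_val, ut_val]
  refine ⟨fun h => mul_left_cancel₀ h2 ?_, fun h => ?_⟩
  · have := congrFun (congrFun h 0) 2
    simp at this
    linear_combination this
  · ext i j; fin_cases i <;> fin_cases j <;> simp [h]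

theorem ut_dg {a d : K} (h : a * d ≠ 0) : ∃ g : GL (Fin 3) K, ∀ x, g * ut x = ut (act (dg a d h) x) * g :=
  ⟨.mkOfDetNeZero !![a * d, 0, 0; 0, d, 0; 0, 0, 1] (by
    simp [det_fin_three, left_ne_zero_of_mul h, right_ne_zero_of_mul h]),
    fun x => Units.ext (by
      rw [Units.val_mul, Units.val_mul, ut_val, ut_val, act_apply, dg_smul, dg_det]
      ext i j; fin_cases i <;> fin_cases j <;> simp [Matrix.mul_apply, Fin.sum_univ_three] <;> ring)⟩

theorem ut_sl (h2 : (2 : K) ≠ 0) {g : GL (Fin 3) K} (d : g.1.det = 1) {M : GL (Fin 2) K}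
    (h : ∀ x, g * ut x = ut (act M x) * g) : ∃ l m : K, ∃ hl : l ≠ 0, ∃ hm : m ≠ 0,
      M = dg l⁻¹ (l ^ 2) (by simp [hl]) * dg (m ^ 2) m⁻¹ (by simp [hm]) := by
  have e := fun x i j => congrArg (fun g : GL (Fin 3) K => g.1 i j) (h x)
  simp only [Units.val_mul, ut_val, act_apply, Matrix.mul_apply, Fin.sum_univ_three, sm0, sm1] at e
  have dM : M.1.det ≠ 0 := by rw [det_fin_two]; exact det_ne M
  have a1 : g.1 1 0 = 0 := by simpa using e ⟨0, 1⟩ 1 2
  have a2 : g.1 2 0 = 0 := by simpa using e ⟨0, 1⟩ 2 2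
  have a3 : g.1 2 1 = 0 := by simpa [dM] using e ⟨0, 1⟩ 0 1
  rw [det_fin_three, a1, a2, a3] at d
  replace d : g.1 0 0 * g.1 1 1 * g.1 2 2 = 1 := by linear_combination d
  have n2 : g.1 2 2 ≠ 0 := right_ne_zero_of_mul_eq_one d
  have n1 : g.1 1 1 ≠ 0 := right_ne_zero_of_mul (left_ne_zero_of_mul_eq_one d)
  have b1 : M.1 1 0 = 0 := by simpa [n2] using e ⟨![1, 0], 0⟩ 1 2
  have b2 : g.1 0 0 = M.1 0 0 * g.1 1 1 := mul_left_cancel₀ h2 (by
    have := e ⟨![1, 0], 0⟩ 0 1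
    simp [a3] at this
    linear_combination this)
  have b3 : M.1 0 1 = 0 := by simpa [a3, n1, h2] using e ⟨![0, 1], 0⟩ 0 1
  have b4 : g.1 1 1 = M.1 1 1 * g.1 2 2 := by
    have := e ⟨![0, 1], 0⟩ 1 2
    simp at this
    linear_combination this
  rw [b2, b4] at d
  rw [b4] at n1
  have n3 := left_ne_zero_of_mul n1
  refine ⟨(g.1 2 2)⁻¹, (g.1 2 2 ^ 2 * M.1 1 1)⁻¹, inv_ne_zero n2, by simp [n2, n3], gl_ext ?_ ?_ ?_ ?_⟩ <;>
    simp only [gl_mul, dg_val, ent, b1, b3] <;> field_simp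
  all_goals first | ring1 | linear_combination d

end Field

variable {p : ℕ} [hp : Fact p.Prime]

theorem not_dvd_GL (h : p ≠ 2) : ¬ p ^ 4 ∣ Nat.card (GL (Fin 3) (ZMod p)) * 2 := by
  have h1 := hp.out.one_lt
  have k : ∀ n, n ≠ 0 → ¬ p ∣ p ^ n - 1 := fun n hn e => h1.ne' (Nat.dvd_one.1
    ((Nat.dvd_sub_iff_right (Nat.one_le_pow _ _ hp.out.pos) (dvd_pow_self p hn)).1 e))
  rw [card_GL_field, Fin.prod_univ_three, ZMod.card, show (p ^ 3 - p ^ (0 : Fin 3).val) *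
    (p ^ 3 - p ^ (1 : Fin 3).val) * (p ^ 3 - p ^ (2 : Fin 3).val) * 2 =
      p ^ 3 * ((p ^ 3 - 1) * (p ^ 2 - 1) * (p ^ 1 - 1) * 2) by
    have := Nat.one_le_pow 3 _ hp.out.pos
    have := Nat.one_le_pow 2 _ hp.out.pos
    have : p ^ 1 ≤ p ^ 3 := Nat.pow_le_pow_right hp.out.pos (by norm_num)
    have : p ^ 2 ≤ p ^ 3 := Nat.pow_le_pow_right hp.out.pos (by norm_num)
    have := Nat.one_le_pow 1 _ hp.out.pos
    simp only [Fin.val_zero, Fin.val_one, Fin.val_two, pow_zero]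
    zify [*]; ring, pow_succ, Nat.mul_dvd_mul_iff_left (pow_pos hp.out.pos 3), hp.out.dvd_mul, hp.out.dvd_mul,
    hp.out.dvd_mul, Nat.prime_dvd_prime_iff_eq hp.out Nat.prime_two]
  simp only [k 3 (by norm_num), k 2 (by norm_num), k 1 (by norm_num), h, or_self, not_false_eq_true]

theorem sandwich {G : Type} [Group G] [Finite G] {ι : Hs (ZMod p) →* G} (i : Function.Injective ι)
    (h4 : ¬ p ^ 4 ∣ Nat.card G) (L : Subgroup G) [L.Normal] (hL : ∀ x, ι x ∈ L)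
    {W : Subgroup (GL (Fin 2) (ZMod p))} (h1 : W ≤ WW ι)
    (h2 : ∀ g ∈ L, ∀ M, (∀ x, Cj ι g x (act M x)) → M ∈ W) :
    ∃ (H : Subgroup G) (ψ : Hs (ZMod p) →* H) (T : Sylow p H), Function.Injective ψ ∧
      (T : Subgroup H) = ψ.range ∧ WW ψ = W ∧ (∀ v, Rd ψ v → Rd ι v) ∧
        ∀ g ∈ L, ∀ x y, Cj ι g x y → ∃ k, Cj ψ k x y := by
  let N : Subgroup G :=
    { carrier := {g | ∃ M ∈ W, ∀ x, Cj ι g x (act M x)}
      one_mem' := ⟨1, one_mem _, fun x => by rw [act_one]; exact .one⟩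
      mul_mem' := fun ⟨M, m, a⟩ ⟨N, n, b⟩ => ⟨_, mul_mem m n, fun x => by
        rw [act_mul]; exact (a _).trans (b x)⟩
      inv_mem' := fun ⟨M, m, a⟩ => ⟨_, inv_mem m, fun x => by
        have := (a (act M⁻¹ x)).symm; rwa [act_inv'] at this⟩ }
  let ψ : Hs (ZMod p) →* (L ⊔ N : Subgroup G) := ι.codRestrict _ fun x => mem_sup_left (hL x)
  have c : ∀ {k x y}, Cj ψ k x y ↔ Cj ι k x y := Subtype.ext_iff
  have i' : Function.Injective ψ := fun _ _ e => i (congrArg Subtype.val e)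
  obtain ⟨T, hT⟩ := sylow_range i' fun e => h4 (e.trans (card_subgroup_dvd_card _))
  refine ⟨_, ψ, T, i', hT, le_antisymm ?_ fun M (hM : M ∈ W) => ?_,
    fun v ⟨h0, A, ⟨g, e⟩, a⟩ => ⟨h0, A, ⟨g, fun w => c.1 (e w)⟩, a⟩,
    fun g hg x y e => ⟨⟨g, mem_sup_left hg⟩, c.2 e⟩⟩
  · rintro M ⟨⟨g, hg⟩, e⟩
    obtain ⟨l, hl, n, ⟨A, hA, a⟩, rfl⟩ := mem_sup_of_normal_left.1 hg
    refine (mul_mem_cancel_right (inv_mem hA)).1 (h2 l hl _ fun x => ?_)
    have := (c.1 (e (act A⁻¹ x))).trans (a _).symm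
    rwa [act_inv', mul_inv_cancel_right, ← act_mul] at this
  · obtain ⟨g, e⟩ := h1 hM
    exact ⟨⟨g, mem_sup_right ⟨M, hM, e⟩⟩, fun x => c.2 (e x)⟩

theorem two_ne (h : p ≠ 2) : (2 : ZMod p) ≠ 0 := fun e =>
  h ((Nat.prime_dvd_prime_iff_eq hp.out Nat.prime_two).1 ((ZMod.natCast_eq_zero_iff 2 p).1 e))

theorem exists_two (h : p ≠ 2) {W : Subgroup (GL (Fin 2) (ZMod p))}
    (h1 : ∀ M ∈ W, (M.1 0 1 = 0 ∧ M.1 1 0 = 0) ∨ (M.1 0 0 = 0 ∧ M.1 1 1 = 0))
    (h3 : ∀ l (hl : l ≠ 0), dg l⁻¹ (l ^ 2) (by simp [hl]) ∈ W ∧ dg (l ^ 2) l⁻¹ (by simp [hl]) ∈ W) :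
    ∃ (H : Type) (_ : Group H) (_ : Finite H) (ψ : Hs (ZMod p) →* H) (T : Sylow p H), Function.Injective ψ ∧
      (T : Subgroup H) = ψ.range ∧ WW ψ = W ∧ ∀ v, Rd ψ v ↔ v ≠ 0 ∧ v 0 * v 1 = 0 := by
  have h2 := two_ne h
  obtain ⟨G, _, _, j, s, hj, hi, hs, -, hσ⟩ := H93.exists_ext2 (L := GL (Fin 3) (ZMod p)) gr 1
    (fun g => by simp [gr_gr]) (map_one _)
  have dec : ∀ g, ∃ m, g = j m ∨ g = j m * s := fun g => by
    by_cases e : g ∈ j.range
    · exact e.imp fun _ e => Or.inl e.symm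
    · exact ((mul_mem_iff_of_index_two hi).2 (by simp [e, hs]) : g * s⁻¹ ∈ j.range).imp
        fun _ e => Or.inr (by rw [e, inv_mul_cancel_right])
  have inv : ∀ P : GL (Fin 3) (ZMod p) → Prop, (∀ m k, P m → P (k * m * k⁻¹)) → (∀ m, P m → P (gr m)) →
      ∀ g m, P m → ∃ m', P m' ∧ j m' = g * j m * g⁻¹ := fun P a b g m hm => by
    obtain ⟨k, rfl | rfl⟩ := dec g
    · exact ⟨_, a m k hm, by simp⟩
    · exact ⟨_, a _ k (b m hm), by simp only [map_mul, map_inv, ← hσ]; group⟩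
  have c : ∀ {m x y}, Cj (j.comp ut) (j m) x y ↔ m * ut x = ut y * m := fun {m x y} => by
    rw [Cj, MonoidHom.comp_apply, MonoidHom.comp_apply, ← map_mul, ← map_inv, ← map_mul, hj.eq_iff,
      mul_inv_eq_iff_eq_mul]
  let S : Subgroup (GL (Fin 3) (ZMod p)) := (detMonoidHom.comp (Units.coeHom _)).ker
  have hS : ∀ m, m ∈ S ↔ m.1.det = 1 := fun _ => Iff.rfl
  haveI : (S.map j).Normal := ⟨by
    rintro _ ⟨m, hm, rfl⟩ g
    exact inv (· ∈ S) (fun m k e => Normal.conj_mem inferInstance m e k) (fun m e => gr_det e) g m hm⟩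
  have d : ∀ M : GL (Fin 2) (ZMod p), M.1 0 1 = 0 → M.1 1 0 = 0 → M ∈ WW (j.comp ut) := fun M a b => by
    have := det_ne M
    rw [a, zero_mul, sub_zero] at this
    obtain ⟨g, e⟩ := ut_dg this
    exact ⟨j g, fun x => c.2 (by rw [e, show dg _ _ this = M from gl_ext rfl a.symm b.symm rfl])⟩
  obtain ⟨H, ψ, T, i, hT, a1, a2, a3⟩ := sandwich (hj.comp (ut_inj h2)) (by
      rw [← card_mul_index j.range, hi, ← Nat.card_congr (MonoidHom.ofInjective hj).toEquiv]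
      exact not_dvd_GL h) (S.map j) (fun x => ⟨_, (hS _).2 (by simp [ut_val, det_fin_three]), rfl⟩) (W := W)
    (fun M hM => (h1 M hM).elim (fun e => d M e.1 e.2) fun e => (mul_mem_cancel_left (show mg h2 ∈ WW
      (j.comp ut) from ⟨s, fun x => (hσ _).trans (congrArg j (gr_ut h2 x))⟩)).1 (d _
        (by simp [gl_mul, mg, cols_val, e.2]) (by simp [gl_mul, mg, cols_val, e.1])))
    (by
      rintro _ ⟨m, hm, rfl⟩ M e
      obtain ⟨l, k, hl, hk, rfl⟩ := ut_sl h2 hm fun x => c.1 (e x)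
      exact mul_mem (h3 l hl).1 (h3 k hk).2)
  have F := cf_of i T hT
  have r : ∀ (m : Matrix (Fin 3) (Fin 3) (ZMod p)) (hm : m.det = 1) (x y : Hs (ZMod p)),
      m * (ut x).1 = (ut y).1 * m → x.v ≠ 0 → y.v = 0 → Rd ψ x.v := fun m hm x y e a b =>
    let ⟨_, hk⟩ := a3 _ ⟨.mkOfDetNeZero m (hm ▸ one_ne_zero), hm, rfl⟩ x y (c.2 (Units.ext e))
    rd_of_cj h2 F hk a b
  refine ⟨H, _, inferInstance, ψ, T, i, hT, a1, fun v => ⟨fun e => ⟨e.1, ?_⟩, fun ⟨h0, e⟩ => ?_⟩⟩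
  · obtain ⟨-, A, ⟨g, e⟩, a⟩ := a2 v e
    obtain ⟨m, hm, e'⟩ := inv Qd (fun _ k e => e.conj k) (fun _ => Qd.gr) g (ut (pl v ![0, 1]))
      ((qd_ut h2).2 (by simp [pl]))
    rw [hj (e'.trans (e _)), qd_ut h2] at hm
    simpa [pl, sm0, a] using hm
  · rcases mul_eq_zero.1 e with e | e
    · have := (r !![0, 1, 0; -1, 0, 0; 0, 0, 1] (by simp [det_fin_three]) ⟨![0, 1], 0⟩ ⟨0, 1⟩
        (by simp [ut_val]) (by simp) rfl).smul ((ne_iff.1 h0).resolve_left (not_not.2 e))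
      rwa [show v 1 • ![0, 1] = v from vec_ext (by simp [e]) (by simp)] at this
    · have := (r !![1, 0, 0; 0, 0, -1; 0, 1, 0] (by simp [det_fin_three]) ⟨![1, 0], 0⟩ ⟨0, 2⟩
        (by simp [ut_val]) (by simp) rfl).smul ((ne_iff.1 h0).resolve_right (not_not.2 e))
      rwa [show v 0 • ![1, 0] = v from vec_ext (by simp) (by simp [e])] at this

theorem real_two {Γ : Type*} [Group Γ] [Finite Γ] {ι : Hs (ZMod p) →* Γ} (h : p ≠ 2) (F : Cf p ι)
    (h3 : ¬ Three (Rd ι)) : (groupFusionSystem ι.range).IsRealizable p := by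
  have h2 := two_ne h
  by_cases h1 : ∀ u v, Rd ι u → Rd ι v → om u v = 0
  · exact real_one h2 F h1
  push Not at h1
  obtain ⟨u, v, hu, hv, uv⟩ := h1
  have D := (dat h2 F).conj (cols u v uv)
  have r0 : Rd ι (cols u v uv • ![1, 0]) := by rw [cols_smul]; simpa
  have r1 : Rd ι (cols u v uv • ![0, 1]) := by rw [cols_smul]; simpa
  have r : ∀ w, Rd ι (cols u v uv • w) → w 0 * w 1 = 0 := fun w hw => by_contra fun e =>
    h3 ⟨_, _, _, r0, r1, hw, by rw [om_gl, cols_det]; simpa [om] using uv,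
      by rw [om_gl, cols_det]; simpa [om, uv] using ⟨uv, right_ne_zero_of_mul e⟩,
      by rw [om_gl, cols_det]; simpa [om, uv] using ⟨uv, left_ne_zero_of_mul e⟩⟩
  have m : ∀ M ∈ cw (WW ι) (cols u v uv), (M.1 0 1 = 0 ∧ M.1 1 0 = 0) ∨ (M.1 0 0 = 0 ∧ M.1 1 1 = 0) :=
    fun M hM => by
      have a := r _ (D.inv M hM _ r0)
      have b := r _ (D.inv M hM _ r1)
      have := det_ne M
      simp only [sm0, sm1, cons_val_zero, cons_val_one, mul_one, mul_zero, add_zero, zero_add, mul_eq_zero] at a b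
      rcases a with a | a <;> rcases b with b | b <;> simp_all
  obtain ⟨H, _, _, ψ, T, i, hT, a1, a2⟩ := exists_two h m fun l hl => by
    obtain ⟨M, hM, a, b⟩ := D.tor _ r0 l hl
    obtain ⟨N, hN, c, d⟩ := D.tor _ r1 l hl
    have a0 : M.1 0 0 = l⁻¹ := by simpa [sm0] using congrFun a 0
    have c1 : N.1 1 1 = l⁻¹ := by simpa [sm1] using congrFun c 1
    have a1 := (m M hM).resolve_right fun e => inv_ne_zero hl (a0 ▸ e.1)
    have c0 := (m N hN).resolve_right fun e => inv_ne_zero hl (c1 ▸ e.2)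
    rw [det_fin_two, a0, a1.1] at b
    rw [det_fin_two, c1, c0.1] at d
    constructor
    · rwa [show dg l⁻¹ (l ^ 2) _ = M from gl_ext a0.symm a1.1.symm a1.2.symm (by
        rw [dg_val, (ent ..).2.2.2]; field_simp at b; linear_combination -b)]
    · rwa [show dg (l ^ 2) l⁻¹ _ = N from gl_ext (by
        rw [dg_val, (ent ..).1]; field_simp at d; linear_combination -d) c0.1.symm c0.2.symm c1.symm]
  refine real' h2 F i T hT (cols u v uv) 1 (fun M => by rw [a1]; simp [mem_cw]) fun w => ?_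
  rw [one_smul, a2]
  refine ⟨fun e => ⟨D.ne w e, r w e⟩, fun ⟨h0, e⟩ => ?_⟩
  rcases mul_eq_zero.1 e with e | e
  · have := D.smul _ ((ne_iff.1 h0).resolve_left (not_not.2 e)) _ r1
    rwa [show w 1 • ![0, 1] = w from vec_ext (by simp [e]) (by simp)] at this
  · have := D.smul _ ((ne_iff.1 h0).resolve_right (not_not.2 e)) _ r0
    rwa [show w 0 • ![1, 0] = w from vec_ext (by simp) (by simp [e])] at this

theorem eqns_L3 : True := by
  have := @ut.eq_1.{0}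
  have := @fl.eq_1.{0}
  have := @gr.eq_1.{0}
  have := @mg.eq_1.{0}
  have := @Qd.eq_1.{0}
  trivial

end H39.RV
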