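import Mathlib
import Cfsg.Agent.Base
import Cfsg.Agent.Lib.RV.L3
import Cfsg.Agent.Lib.Fusion.Park

/-!
Reduction of the realizability of all the systems to four model groups.
-/

set_option autoImplicit false

namespace H39.RV

open Subgroup Matrix Cfsg H93.SX
open scoped MatrixGroups commutatorElement

/-- There is a finite group with three radical lines. -/
def Md (p : ℕ) [Fact p.Prime] (P : Subgroup (GL (Fin 2) (ZMod p)) → Prop) : Prop :=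
  ∃ (G : Type) (_ : Group G) (_ : Finite G) (ψ : Hs (ZMod p) →* G) (T : Sylow p G), Function.Injective ψ ∧
    (T : Subgroup G) = ψ.range ∧ Three (Rd ψ) ∧ P (WW ψ)

/-- The element is fused into the cyclic group. -/
def Fz {G : Type*} [Group G] (w x : G) : Prop := ∃ g, g * x * g⁻¹ ∈ zpowers w

variable {p : ℕ} [hp : Fact p.Prime]

theorem three_of {G : Type*} [Group G] [Finite G] (h : p ≠ 2) (h4 : ¬ p ^ 4 ∣ Nat.card G) {x y w : G}
    (hx : x ^ p = 1) (hy : y ^ p = 1) (hw : w ^ p = 1) (wx : Commute w x) (wy : Commute w y)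
    (e : x * y = w * (y * x)) (h1 : w ≠ 1) (a : Fz w x) (b : Fz w y) {i j k : ℕ} (hi : (i : ZMod p) ≠ 0)
    (hj : (j : ZMod p) ≠ 0) (c : Fz w (x ^ i * y ^ j * w ^ k)) :
    ∃ (ψ : Hs (ZMod p) →* G) (T : Sylow p G), Function.Injective ψ ∧ (T : Subgroup G) = ψ.range ∧
      Three (Rd ψ) ∧ ψ ⟨![1, 0], 0⟩ = x ∧ ψ ⟨![0, 1], 0⟩ = y := by
  obtain ⟨ψ, i0, rfl, rfl, rfl⟩ := exists_hom (two_ne h) hx hy hw wx wy e h1
  obtain ⟨T, hT⟩ := sylow_range i0 h4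
  have r : ∀ u, Fz (ψ ⟨0, 2⟩) (ψ u) → u.v ≠ 0 → Rd ψ u.v := fun u ⟨g, n, e⟩ h0 =>
    rd_of_cj (two_ne h) (cf_of i0 T hT) (g := g) (y := ⟨0, 2⟩ ^ n) (e.symm.trans (map_zpow _ _ _).symm) h0
      (zpow_mem (K := ZZ _) rfl n)
  simp only [← map_pow, ← map_mul] at c
  refine ⟨ψ, T, i0, hT, ⟨_, _, _, r _ a (by simp), r _ b (by simp), r _ c (ne_iff.2 (Or.inl ?_)), ?_, ?_, ?_⟩,
    rfl, rfl⟩ <;> simp [pow_eq, om, hi, hj]

theorem two_cube : (2 : ZMod 3) ^ 3 ≠ 1 := by decide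

theorem real_all (a : Md 3 Ty) (b : Md 3 fun W => ¬ Ty W) (c : Md 5 fun _ => True) (d : Md 13 fun _ => True)
    {Γ : Type*} [Group Γ] [Finite Γ] {ι : Hs (ZMod p) →* Γ} (h : p ≠ 2) (h7 : p ≠ 7) (F : Cf p ι) :
    (groupFusionSystem ι.range).IsRealizable p := by
  by_cases h3 : Three (Rd ι)
  swap
  · exact real_two h F h3
  have h2 := two_ne h
  have D := dat h2 F
  rcases D.cases h3 h h7 with rfl | rfl | rfl
  · obtain ⟨G, _, _, ψ, T, i, hT, e, t⟩ : Md 3 fun W => Ty (WW ι) ↔ Ty W := by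
      by_cases t : Ty (WW ι) <;> simpa [t]
    have D' := dat h2 (cf_of i T hT)
    obtain ⟨N, a1, a2, a3⟩ := D.nf h3 (l := 2) h2 two_cube
    obtain ⟨N', b1, b2, b3⟩ := D'.nf e (l := 2) h2 two_cube
    exact real' h2 F i T hT N N' (fun M => by rw [(D.nf3 a1 a2 a3).1, (D'.nf3 b1 b2 b3).1, t])
      fun v => by rw [(D.nf3 a1 a2 a3).2, (D'.nf3 b1 b2 b3).2]
  · obtain ⟨G, _, _, ψ, T, i, hT, e, -⟩ := c
    obtain ⟨N, a1, a2⟩ := D.nf5 h3
    obtain ⟨N', b1, b2⟩ := (dat h2 (cf_of i T hT)).nf5 e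
    exact real' h2 F i T hT N N' (fun M => by rw [a1, b1]) fun v => by rw [a2, b2]
  · obtain ⟨G, _, _, ψ, T, i, hT, e, -⟩ := d
    obtain ⟨N, a1, a2⟩ := D.nf13 h3
    obtain ⟨N', b1, b2⟩ := (dat h2 (cf_of i T hT)).nf13 e
    exact real' h2 F i T hT N N' (fun M => by rw [a1, b1]) fun v => by rw [a2, b2]

theorem exists_equiv {Ω : Type*} [Group Ω] {S : Subgroup Ω} [Finite S] (h : p ≠ 2) (hE : IsExtraspecial p S)
    (hc : Nat.card S = p ^ 3) (he : Monoid.exponent S = p) : Nonempty (Hs (ZMod p) ≃* S) := by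
  obtain ⟨z, e, -, h1⟩ := H5.exists_wes_top hE
  obtain ⟨x, -, y, -, rfl⟩ := e.exists_commutator_eq hp.out h1
  have c : ∀ t, Commute ⁅x, y⁆ t := fun t => ((e.cent.ge (mem_zpowers _)).2 t (mem_top t)).symm
  have k : ∀ t : S, t ^ p = 1 := fun t => he ▸ Monoid.pow_exponent_eq_one t
  obtain ⟨j, hj, -⟩ := exists_hom (two_ne h) (k x) (k y) (k _) (c x) (c y)
    (by rw [commutatorElement_def]; group) fun e' => hp.out.one_lt.ne (by rw [← e.ord, e', orderOf_one])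
  exact ⟨.ofBijective j (hj.bijective_of_nat_card_le (by rw [hc, card_Hs]))⟩

theorem main (a : Md 3 Ty) (b : Md 3 fun W => ¬ Ty W) (c : Md 5 fun _ => True) (d : Md 13 fun _ => True)
    {Ω : Type*} [Group Ω] {S : Subgroup Ω} [Finite S] (hS : IsPGroup p S) (F : FusionSystem S)
    (hF : F.IsSaturated p) (h2 : p ≠ 2) (h7 : p ≠ 7) (hE : IsExtraspecial p S) (hc : Nat.card S = p ^ 3)
    (he : Monoid.exponent S = p) : F.IsRealizable p := by
  obtain ⟨Γ, _, _, ι, h⟩ := H93.Park.exists_finite_realization hS F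
  obtain ⟨θ, h1, -⟩ := H91.exists_quot_of_real h (H93.groupFusionSystem_isRealizedBy ι.range)
    (Subgroup.range_subtype _).symm
  obtain ⟨j⟩ := exists_equiv h2 hE hc he
  have r : (ι.comp j.toMonoidHom).range = ι.range := by
    rw [MonoidHom.range_comp, MonoidHom.range_eq_top.2 j.surjective, ← MonoidHom.range_eq_map]
  obtain ⟨G, _, _, ψ, h5, P, hP⟩ := r ▸ real_all a b c d h2 h7 (ι := ι.comp j.toMonoidHom)
    ⟨h.1.comp j.injective, pg_Hs, r ▸ h1.isSaturated hS hF⟩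
  refine ⟨G, _, ‹_›, ψ.comp ι.rangeRestrict, ⟨h5.1.comp (MonoidHom.ofInjective h.1).injective,
    fun Q hQ φ hφ => (h.2 Q hQ φ hφ).trans ⟨fun ⟨g, hg⟩ => ?_, fun ⟨k, hk⟩ => ?_⟩⟩, P, by
      rw [hP, MonoidHom.range_comp, MonoidHom.range_eq_top.2 ι.rangeRestrict_surjective,
        ← MonoidHom.range_eq_map]⟩
  · obtain ⟨k, hk⟩ := (h5.2 ((Q.subgroupOf S).map ι) (Subgroup.map_le_range _ _) (conjHom _ g) (by
      rintro ⟨_, x, hx, rfl⟩
      exact ⟨_, hg ⟨x, hx⟩⟩)).1 ⟨Subgroup.map_le_range _ _, by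
        rintro ⟨_, x, hx, rfl⟩
        exact ⟨_, hg ⟨x, hx⟩⟩, g, fun _ => rfl⟩
    exact ⟨k, fun x => (congrArg ψ (Subtype.ext (hg x))).trans (hk ⟨_, ⟨x, hQ x.2⟩, x.2, rfl⟩)⟩
  · let i := (MonoidHom.ofInjective h.1).symm
    let χ : (Q.subgroupOf S).map ι →* Γ := ι.comp ((φ.codRestrict S hφ).comp
      (((S.subtype.comp i.toMonoidHom).comp (Subgroup.inclusion (Subgroup.map_le_range _ _))).codRestrict
        Q (by
          rintro ⟨_, x, hx, rfl⟩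
          exact (congrArg (fun y : S => y.1 ∈ Q) ((MonoidHom.ofInjective h.1).symm_apply_apply x)).mpr hx)))
    have hχ : ∀ x : Q, χ ⟨_, ⟨x, hQ x.2⟩, x.2, rfl⟩ = ι ⟨φ x, hφ x⟩ := fun x =>
      congrArg (fun y => ι ⟨φ y, hφ y⟩) (Subtype.ext (congrArg S.subtype
        ((MonoidHom.ofInjective h.1).symm_apply_apply ⟨x, hQ x.2⟩)))
    obtain ⟨-, -, g, hg⟩ := (h5.2 _ (Subgroup.map_le_range _ _) χ fun _ => ⟨_, rfl⟩).2 ⟨k, by
      rintro ⟨_, x, hx, rfl⟩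
      exact (congrArg ψ (Subtype.ext (hχ ⟨x, hx⟩))).trans (hk ⟨x, hx⟩)⟩
    exact ⟨g, fun x => (hχ x).symm.trans (hg _)⟩

theorem eqns_Red : True := by
  have := @Md.eq_1
  have := @Fz.eq_1.{0}
  trivial

end H39.RV
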