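import Mathlib
import Cfsg.Agent.Base
import Cfsg.Agent.Lib.ZD.BW
import Cfsg.Agent.Lib.RV.Red
import Cfsg.Agent.Lib.RV.Ab

/-!
The Sylow subgroup and three radical lines from the centraliser of an involution.
-/

set_option autoImplicit false

namespace H39.RV

open Subgroup Matrix Cfsg H45 H69 H42.BSE H24.ZD H93.SX
open scoped commutatorElement MatrixGroups

/-- The local data. -/
structure Hy (p : ℕ) {G : Type*} [Group G] (z y q r s : G) : Prop where
  z1 : z ≠ 1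
  zz : z * z = 1
  yp : orderOf y = p
  qq : q * q = z
  rr : r * r = z
  ss : s * s = z
  qr : q * r = z * (r * q)
  sq : Commute s q
  sr : Commute s r
  qy : Commute q y
  ry : Commute r y
  sy : s * y * s⁻¹ = y⁻¹
  iso : ∀ t, t * t = 1 → Commute t y → Commute t z → t = 1 ∨ t = z
  c1 : ¬ p ^ 2 ∣ Nat.card 𝐂[z]
  c2 : p ^ 2 ∣ Nat.card G
  c3 : ¬ p ^ 4 ∣ Nat.card G
  cj : ∀ t, t * t = 1 → t * y * t⁻¹ = y⁻¹ → IsConj z t

theorem pg_zpowers {G : Type*} [Group G] {p k : ℕ} {a : G} (h : a ^ p ^ k = 1) : IsPGroup p (zpowers a) := by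
  rintro ⟨_, n, rfl⟩
  exact ⟨k, Subtype.ext (show (a ^ n) ^ p ^ k = 1 by
    rw [← zpow_natCast, ← _root_.zpow_mul, mul_comm, _root_.zpow_mul, zpow_natCast, h, _root_.one_zpow])⟩

namespace Hy

variable {p : ℕ} [hp : Fact p.Prime] {G : Type*} [Group G] [Finite G] {z y q r s : G} (h : Hy p z y q r s)
  (h2 : p ≠ 2)
include h

omit hp [Finite G] in
theorem zc : Commute q z ∧ Commute r z ∧ Commute s z ∧ Commute z y :=
  ⟨h.qq ▸ (Commute.refl q).mul_right (.refl q), h.rr ▸ (Commute.refl r).mul_right (.refl r),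
    h.ss ▸ (Commute.refl s).mul_right (.refl s), h.qq ▸ h.qy.mul_left h.qy⟩

omit hp [Finite G] in
theorem inv {a : G} (aa : a * a = z) (sa : Commute s a) (ay : Commute a y) :
    s * a * (s * a) = 1 ∧ s * a * y * (s * a)⁻¹ = y⁻¹ :=
  ⟨by rw [sa.symm.mul_mul_mul_comm, h.ss, aa, h.zz], by rw [← h.sy, mul_assoc s, ay.eq]; group⟩

omit hp [Finite G] in
theorem rq : r * q * r⁻¹ = z * q := by
  rw [mul_inv_eq_iff_eq_mul, mul_assoc, h.qr, ← mul_assoc, h.zz, one_mul]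

theorem syl : Syl p (zpowers y) 𝐂[z] := by
  have c := (Nat.card_zpowers y).trans h.yp
  have l : zpowers y ≤ 𝐂[z] := zpowers_le.2 (mem_centralizer_singleton_iff.2 h.zc.2.2.2.symm)
  refine isSylowIn_of_not_dvd_relIndex (isPGroup_of_card_eq c) l fun ⟨k, e⟩ => h.c1 ⟨k, ?_⟩
  rw [← H3.relIndex_mul_card l, e, c]; ring

theorem fz {t u : G} (ht : IsConj z t) (hu : u ^ p = 1) (c : Commute t u) : Fz y u := by
  obtain ⟨g, rfl⟩ := isConj_iff.1 ht
  obtain ⟨k, -, e⟩ := h.syl.exists_cj_le (R := zpowers (g⁻¹ * u * g)) (pg_zpowers (k := 1) (by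
    simpa using (conj_pow (a := g⁻¹) (b := u) (i := p)).trans (by simp [hu])))
    (zpowers_le.2 (mem_centralizer_singleton_iff.2 (by
      have := congrArg (fun a => g⁻¹ * a * g) c.eq
      simpa [mul_assoc] using this.symm)))
  exact ⟨k * g⁻¹, by simpa [mul_assoc] using e (cj_mem k (mem_zpowers _))⟩

include h2

omit [Finite G] in
theorem eq_one {t u : G} (ht : t * y * t⁻¹ = y⁻¹) (hu : u ∈ zpowers y) (c : Commute t u) : u = 1 := by
  obtain ⟨n, rfl⟩ := hu
  have e : (y ^ n) ^ 2 = 1 := by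
    rw [pow_two, mul_eq_one_iff_eq_inv, ← _root_.inv_zpow, ← ht, conj_zpow]
    exact (mul_inv_eq_iff_eq_mul.2 c.eq).symm
  have e' : (y ^ n) ^ p = 1 := by
    rw [← zpow_natCast, ← _root_.zpow_mul, mul_comm, _root_.zpow_mul, zpow_natCast, ← h.yp, pow_orderOf_eq_one,
      _root_.one_zpow]
  simpa [(Nat.coprime_primes Nat.prime_two hp.out).2 h2.symm] using pow_gcd_eq_one.2 ⟨e, e'⟩

theorem exists_x : ∃ x : G, x ≠ 1 ∧ x ^ p = 1 ∧ Commute y x ∧ Commute (s * q) x ∧ z * x * z⁻¹ = x⁻¹ ∧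
    (∃ i : ℕ, s * x * s⁻¹ = x ^ i) ∧ ⁅x, r * x * r⁻¹⁆ ∈ zpowers y := by
  obtain ⟨qz, rz, sz, zy⟩ := h.zc
  obtain ⟨tt, ty⟩ := h.inv h.qq h.sq h.qy
  have cy := (Nat.card_zpowers y).trans h.yp
  have py := isPGroup_of_card_eq cy
  have mc : ∀ {a b : G}, a ∈ 𝐂[b] ↔ Commute a b := mem_centralizer_singleton_iff
  have nY : ∀ a, a * y * a⁻¹ ∈ zpowers y → a ∈ 𝐍(zpowers y) := fun a e => mem_normalizer_fintype (by
    rintro _ ⟨n, rfl⟩
    simpa only [conj_zpow, SetLike.mem_coe] using zpow_mem e n)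
  have nc : ∀ a, Commute a y → a ∈ 𝐍(zpowers y) := fun a e => nY a (by simp [e.eq])
  have hY : zpowers y ⊴ 𝐂[y] := ⟨zpowers_le.2 (mc.2 (.refl y)), fun a e => nc a (mc.1 e)⟩
  have oY : zpowers y ≤ Od 𝐂[y] := le_Od (cy.symm ▸ hp.out.odd_of_ne_two h2) hY
  have p4 : ∀ a, a * a = z → IsPGroup 2 (zpowers a) := fun a e => pg_zpowers (k := 2) (by
    rw [show 2 ^ 2 = 2 * 2 from rfl, pow_mul, pow_two a, e, pow_two, h.zz])
  have pA : IsPGroup 2 ↥(zpowers s ⊔ (zpowers r ⊔ zpowers q)) := (p4 s h.ss).to_sup_of_normal_right'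
    ((p4 r h.rr).to_sup_of_normal_right' (p4 q h.qq) (zpowers_le.2 (mem_normalizer_fintype (by
      rintro _ ⟨n, rfl⟩
      rw [← conj_zpow, h.rq, ← h.qq]
      exact zpow_mem (mul_mem (mul_mem (mem_zpowers q) (mem_zpowers q)) (mem_zpowers q)) n))))
    (le_normalizer_of_le_centralizer (le_centralizer_iff.1 (centralizer_zpowers s ▸ sup_le
      (zpowers_le.2 (mc.2 h.sr.symm)) (zpowers_le.2 (mc.2 h.sq.symm)))))
  have aY : zpowers s ⊔ (zpowers r ⊔ zpowers q) ≤ 𝐍(zpowers y) := sup_le (zpowers_le.2 (nY s (by simp [h.sy])))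
    (sup_le (zpowers_le.2 (nc r h.ry)) (zpowers_le.2 (nc q h.qy)))
  obtain ⟨P, hP, aP, yP⟩ := coprime_Hall_subset (π := {p}) (M := Od 𝐂[y]) (le_norm_pcore _
      (centralizer_zpowers y ▸ le_normalizer_centralizer aY))
    (coprime_of_isPGroup_of_not_dvd Nat.prime_two pA (odd_card_Od _).not_two_dvd_nat).symm
    (solv_of_odd (odd_card_Od _)) oY ((isPi_singleton_iff hp.out).2 py) aY
  have sP := hP.syl hp.out
  have PH : P ≤ 𝐂[y] := sP.le.trans (pcore_sub _ _)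
  have sN := aP (mem_sup_left (mem_zpowers s))
  have rN := aP (mem_sup_right (mem_sup_left (mem_zpowers r)))
  have tN := mul_mem sN (aP (mem_sup_right (mem_sup_right (mem_zpowers q))))
  have zN : z ∈ 𝐍(P) := h.ss ▸ mul_mem sN sN
  have y1 : y ≠ 1 := fun e => hp.out.one_lt.ne (by rw [← h.yp, e, orderOf_one])
  have e1 : P ⊓ 𝐂[z] = zpowers y := h.syl.max _ (le_inf yP h.syl.le) inf_le_right (sP.isP.to_le inf_le_left)
  have e2 : zpowers y ⊓ 𝐂[s * q] = ⊥ := eq_bot_iff.2 fun u hu => h.eq_one h2 ty hu.1 (mc.1 hu.2).symm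
  have e3 : Nat.card ↥(P ⊓ 𝐂[z * (s * q)]) = Nat.card ↥(P ⊓ 𝐂[s * q]) := by
    have : r * (s * q) * r⁻¹ = z * (s * q) := by
      rw [← mul_assoc r, ← h.sr.eq, mul_assoc s, mul_assoc s, h.rq, ← mul_assoc, sz.eq, mul_assoc]
    rw [← card_cj (P ⊓ 𝐂[s * q]) r, cj_inf, cj_eq_self_iff.2 rN, cj_centralizer_singleton, this]
  have bw := card_four h.zz tt (sz.mul_left qz).symm.eq h.z1
    (fun e => y1 (h.eq_one h2 ty (mem_zpowers y) (e ▸ Commute.one_left y)))
    (fun e => y1 (h.eq_one h2 ty (mem_zpowers y) (e ▸ zy)))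
    ((odd_card_Od _).of_dvd_nat (card_dvd_of_le sP.le)) zN tN
  rw [e1, e2, e3, card_bot, cy, one_pow, mul_one] at bw
  have cX : Nat.card ↥(P ⊓ 𝐂[s * q]) = p := by
    obtain ⟨k, hk⟩ := (sP.isP.to_le (inf_le_left (b := 𝐂[s * q]))).exists_card_eq
    obtain ⟨g, hg⟩ := isConj_iff.1 (h.cj _ tt ty)
    have d := card_dvd_of_le (inf_le_right (a := P) (b := 𝐂[s * q]))
    rw [hk, ← hg, ← cj_centralizer_singleton, card_cj] at d
    obtain _ | _ | k := k
    · rw [hk, pow_zero, mul_one, mul_one, ← cy] at bw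
      obtain rfl := eq_of_le_of_card_ge yP bw.le
      have m : MulEq (Od 𝐂[y]) (𝐂[y] ⊓ 𝐂[z]) 𝐂[y] := ⟨pcore_sub _ _, inf_le_left, fun g hg => by
        obtain ⟨o, ho, c, hc, e, rfl⟩ := zstar_dec (mc.2 zy) h.zz (fun g hg e => (h.iso _ (by
          rw [conj_mul, h.zz, mul_one, mul_inv_cancel]) (((mc.1 hg).mul_left zy).mul_left (mc.1 hg).inv_left)
          e.symm).resolve_left (by simpa using h.z1)) hg
        exact ⟨o, ho.1, c, ⟨hc, mc.2 e⟩, rfl⟩⟩
      have s1 := (m.hall_mul hP (Syl.hall (h.syl.mono (le_inf hY.1 h.syl.le) inf_le_right) hp.out)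
        ⟨le_rfl, le_rfl, fun a ha => ⟨a, ha, 1, one_mem _, (mul_one a).symm⟩⟩).syl hp.out
      obtain ⟨S, hS, yS⟩ := exists_isSylowIn_le py (le_top (a := zpowers y))
      have nt : Nontrivial S := (nontrivial_iff_ne_bot S).2 fun e => y1 (mem_bot.1 (e ▸ yS (mem_zpowers y)))
      have := hS.isP.center_nontrivial
      obtain ⟨⟨w, hw⟩, w1⟩ := exists_ne (1 : center S)
      have wy : (w : G) ∈ zpowers y := s1.le_of_le_normalizer' (R := zpowers (w : G)) (hS.isP.to_le (zpowers_le.2 w.2))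
        (zpowers_le.2 (mc.2 (congrArg Subtype.val (mem_center_iff.1 hw ⟨y, yS (mem_zpowers y)⟩)).symm))
        (zpowers_le.2 (nc _ (congrArg Subtype.val (mem_center_iff.1 hw ⟨y, yS (mem_zpowers y)⟩)).symm))
        (mem_zpowers _)
      obtain ⟨n, hn⟩ : y ∈ zpowers (w : G) := by
        rw [zpowers_eq_of_prime_card (cy.symm ▸ hp.out) wy fun e => w1 (Subtype.ext (Subtype.ext e))]
        exact mem_zpowers y
      have e := s1.max S yS (fun a ha => mc.2 (hn ▸ Commute.zpow_right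
        (congrArg Subtype.val (mem_center_iff.1 hw ⟨a, ha⟩)) n)) hS.isP
      have := hS.card_eq_pow_factorization
      rw [e, cy, card_top] at this
      have := (hp.out.pow_dvd_iff_le_factorization Nat.card_pos.ne').1 h.c2
      have := Nat.pow_right_injective hp.out.two_le ((pow_one p).trans ‹_›)
      omega
    · rw [hk, zero_add, pow_one]
    · exact (h.c1 ((pow_dvd_pow p (by omega)).trans d)).elim
  obtain ⟨x, hx, ox⟩ := exists_orderOf_eq_of_mem_primesOf (H := P ⊓ 𝐂[s * q]) ⟨hp.out, cX.symm.dvd⟩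
  have x1 : x ≠ 1 := fun e => hp.out.one_lt.ne (by rw [← ox, e, orderOf_one])
  have eX := zpowers_eq_of_prime_card (cX.symm ▸ hp.out) hx x1
  have k : ∀ a ∈ 𝐍(P), Commute a (s * q) → a * x * a⁻¹ ∈ zpowers x := fun a ha c => eX ▸
    ⟨conj_mem_of_norm ha x hx.1, mc.2 ((c.mul_left (mc.1 hx.2)).mul_left c.inv_left)⟩
  refine ⟨x, x1, ox ▸ pow_orderOf_eq_one x, (mc.1 (PH hx.1)).symm, (mc.1 hx.2).symm, ?_,
    (mem_powers_iff_mem_zpowers.2 (k s sN ((Commute.refl s).mul_right h.sq))).imp fun _ e => e.symm, ?_⟩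
  · have a := k z zN (sz.mul_left qz).symm
    have b : Commute x (z * x * z⁻¹) := let ⟨n, e⟩ := a; e ▸ (Commute.refl x).zpow_right n
    have c := eX.le (mul_mem (mem_zpowers x) a)
    refine eq_inv_of_mul_eq_one_right (mem_bot.1 (e2.le ⟨e1.le ⟨c.1, mc.2 ?_⟩, c.2⟩))
    have zi := inv_eq_of_mul_eq_one_right h.zz
    calc x * (z * x * z⁻¹) * z = z * (z * x * z⁻¹ * x) := by rw [zi]; simp [mul_assoc, h.zz, ← mul_assoc z z]
      _ = _ := by rw [b.eq]
  · have : ((zpowers y).subgroupOf P).Normal := (normal_subgroupOf_iff_le_normalizer yP).2 (PH.trans hY.2)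
    have c : Nat.card (P ⧸ (zpowers y).subgroupOf P) = p ^ 2 := by
      have := card_eq_card_quotient_mul_card_subgroup ((zpowers y).subgroupOf P)
      rw [bw, cX, Nat.card_congr (subgroupOfEquivOfLe yP).toEquiv, cy] at this
      exact (Nat.eq_of_mul_eq_mul_right hp.out.pos this).symm.trans (pow_two p).symm
    have := (QuotientGroup.eq_one_iff (N := (zpowers y).subgroupOf P)
      ⁅(⟨x, hx.1⟩ : P), ⟨_, conj_mem_of_norm rN x hx.1⟩⁆).1 (by
        rw [← QuotientGroup.mk'_apply, map_commutatorElement, commutatorElement_eq_one_iff_mul_comm]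
        exact (IsPGroup.isMulCommutative_of_card_eq_prime_sq c).is_comm.comm _ _)
    exact this

end Hy

end H39.RV
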