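import Mathlib
import Cfsg.Agent.Base
import Cfsg.Agent.Lib.RV.Gen

/-!
The Sylow subgroup is not abelian; conclusion for the prime thirteen.
-/

set_option autoImplicit false

namespace H39.RV

open Subgroup Matrix Cfsg H45 H69 H93.SX Multiplicative
open scoped commutatorElement MatrixGroups

variable {p : ℕ} [hp : Fact p.Prime] {G : Type*} [Group G] {φ : Multiplicative (Fin 3 → ZMod p) →* G}
  {g k : G} {M N : Matrix (Fin 3) (Fin 3) (ZMod p)}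

variable (φ g M) in
/-- The element acts as the matrix. -/
def Ac : Prop := ∀ v, g * φ (ofAdd v) * g⁻¹ = φ (ofAdd (M *ᵥ v))

theorem Ac.mul (a : Ac φ g M) (b : Ac φ k N) : Ac φ (g * k) (M * N) := fun v => by
  rw [← mulVec_mulVec, ← a, ← b]; group

theorem ac_one : Ac φ 1 1 := fun v => by simp

theorem Ac.pow (a : Ac φ g M) (n : ℕ) : Ac φ (g ^ n) (M ^ n) := by
  induction n with
  | zero => simpa using ac_one
  | succ n ih => rw [pow_succ, pow_succ]; exact ih.mul a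

theorem Ac.uniq (i : Function.Injective φ) (a : Ac φ g M) (b : Ac φ g N) : M = N :=
  ext_iff_mulVec.2 fun v => i ((a v).symm.trans (b v))

theorem phi_smul (a : ZMod p) (v : Fin 3 → ZMod p) : φ (ofAdd (a • v)) = φ (ofAdd v) ^ a.val := by
  rw [← map_pow, ← ofAdd_nsmul, ← Nat.cast_smul_eq_nsmul (ZMod p), ZMod.natCast_zmod_val]

theorem ac_of (a : g * φ (ofAdd ![1, 0, 0]) * g⁻¹ = φ (ofAdd ![M 0 0, M 1 0, M 2 0]))
    (b : g * φ (ofAdd ![0, 1, 0]) * g⁻¹ = φ (ofAdd ![M 0 1, M 1 1, M 2 1]))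
    (c : g * φ (ofAdd ![0, 0, 1]) * g⁻¹ = φ (ofAdd ![M 0 2, M 1 2, M 2 2])) : Ac φ g M := fun v => by
  have e : v = v 0 • ![1, 0, 0] + v 1 • ![0, 1, 0] + v 2 • ![0, 0, 1] := by ext i; fin_cases i <;> simp
  have e' : M *ᵥ v = v 0 • ![M 0 0, M 1 0, M 2 0] + v 1 • ![M 0 1, M 1 1, M 2 1] + v 2 • ![M 0 2, M 1 2, M 2 2] := by
    ext i; fin_cases i <;> simp [mulVec, dotProduct, Fin.sum_univ_three] <;> ring
  rw [e']
  conv_lhs => rw [e]
  simp only [ofAdd_add, map_mul, phi_smul, ← a, ← b, ← c, conj_pow, conj_mul]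

theorem exists_phi {a b c : G} (ha : a ^ p = 1) (hb : b ^ p = 1) (hc : c ^ p = 1) (ab : Commute a b)
    (ac : Commute a c) (bc : Commute b c) : ∃ φ : Multiplicative (Fin 3 → ZMod p) →* G,
      φ (ofAdd ![1, 0, 0]) = a ∧ φ (ofAdd ![0, 1, 0]) = b ∧ φ (ofAdd ![0, 0, 1]) = c :=
  ⟨MonoidHom.mk' (fun v => a ^ (v.toAdd 0).val * (b ^ (v.toAdd 1).val * c ^ (v.toAdd 2).val)) fun v w => by
    simp only [toAdd_mul, Pi.add_apply, H91.zp_add ha, H91.zp_add hb, H91.zp_add hc]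
    rw [(bc.pow_pow _ _).mul_mul_mul_comm, ((ab.pow_pow _ _).mul_right (ac.pow_pow _ _)).mul_mul_mul_comm],
    by simp [ZMod.val_one], by simp [ZMod.val_one], by simp [ZMod.val_one]⟩

theorem val_eq_zero {a : G} (ha : a ^ p = 1) (h1 : a ≠ 1) {c : ZMod p} (h : a ^ c.val = 1) : c = 0 :=
  (ZMod.val_eq_zero c).1 (Nat.eq_zero_of_dvd_of_lt ((orderOf_eq_prime ha h1).symm.dvd.trans (orderOf_dvd_of_pow_eq_one h)) c.val_lt)

variable (φ) in
/-- The matrices induced by conjugation. -/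
def AA : Submonoid (Matrix (Fin 3) (Fin 3) (ZMod p)) where
  carrier := {M | ∃ g, Ac φ g M}
  one_mem' := ⟨1, ac_one⟩
  mul_mem' := fun ⟨_, a⟩ ⟨_, b⟩ => ⟨_, a.mul b⟩

theorem exists_ac (h : g ∈ 𝐍(φ.range)) : ∃ M, Ac φ g M := by
  have k := fun v => conj_mem_of_mem_normalizer h ⟨ofAdd v, rfl⟩
  choose c e using k
  exact ⟨of fun i j => (c (![![1, 0, 0], ![0, 1, 0], ![0, 0, 1]] j)).toAdd i,
    ac_of ((e _).symm.trans (congrArg φ (by ext i; fin_cases i <;> rfl)))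
      ((e _).symm.trans (congrArg φ (by ext i; fin_cases i <;> rfl)))
      ((e _).symm.trans (congrArg φ (by ext i; fin_cases i <;> rfl)))⟩

variable [Finite G] (i : Function.Injective φ) (h4 : ¬ p ^ 4 ∣ Nat.card G)
include i h4

theorem syl_phi : Syl p φ.range ⊤ := by
  have hc : Nat.card φ.range = p ^ 3 := by
    rw [← Nat.card_congr (MonoidHom.ofInjective i).toEquiv, Nat.card_congr toAdd, Nat.card_fun, Nat.card_zmod,
      Nat.card_fin]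
  refine isSylowIn_of_not_dvd_relIndex (IsPGroup.of_card hc) le_top fun ⟨k, e⟩ => h4 ⟨k, ?_⟩
  rw [← card_mul_index φ.range, hc, ← relIndex_top_right, e]; ring

theorem unip (M : Matrix (Fin 3) (Fin 3) (ZMod p)) (hM : M ∈ AA φ) (h : M ^ p = 1) : M = 1 := by
  obtain ⟨g, a⟩ := hM
  obtain ⟨e, m, hm, e1⟩ := Nat.exists_eq_pow_mul_and_not_dvd (orderOf_pos g).ne' p hp.out.ne_one
  obtain ⟨w, hw⟩ := (syl_phi i h4).le_of_le_normalizer' (pg_zpowers (a := g ^ m) (k := e) (by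
    rw [← pow_mul, mul_comm, ← e1, pow_orderOf_eq_one])) le_top (zpowers_le.2 (pow_mem (mem_normalizer_fintype (by
      rintro _ ⟨v, rfl⟩; exact ⟨_, (a v.toAdd).symm⟩)) m)) (mem_zpowers _)
  have : M ^ m = 1 := (a.pow m).uniq i fun v => by
    rw [← hw, ← map_mul, mul_comm, map_mul, mul_inv_cancel_right, one_mulVec]
  simpa [(hp.out.coprime_iff_not_dvd.2 hm).gcd_eq_one] using pow_gcd_eq_one.2 ⟨h, this⟩

theorem exists_proj (h2 : (2 : ZMod p) ≠ 0) {u l : Fin 3 → ZMod p} (h0 : u ≠ 0)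
    (hf : Fz (φ (ofAdd ![1, 0, 0])) (φ (ofAdd u))) (hl : vecMulVec u l *ᵥ u = u)
    (hZ : 2 • vecMulVec ![1, 0, 0] ![1, 0, 0] - 1 ∈ AA φ) (hT : 2 • vecMulVec u l - 1 ∈ AA φ) :
    ∃ N ∈ AA φ, ∃ N' ∈ AA φ, N * N' = 1 ∧ N' * N = 1 ∧
      N * vecMulVec ![1, 0, 0] ![1, 0, 0] * N' = vecMulVec u l := by
  obtain ⟨g, hg⟩ := hf
  obtain ⟨m, hm⟩ := mem_powers_iff_mem_zpowers.2 hg
  obtain ⟨T, hT'⟩ := (syl_phi i h4).exists_sylow_top
  have c : ∀ v, φ v ∈ 𝐂(φ.range) := by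
    rintro v _ ⟨w, rfl⟩
    rw [← map_mul, mul_comm, map_mul]
  obtain ⟨n, hn, e⟩ := T.conj_eq_normalizer_conj_of_mem_centralizer (φ (ofAdd u)) g⁻¹ (by
    change _ ∈ 𝐂((T : Subgroup G)); exact hT' ▸ c _) (by
    change _ ∈ 𝐂((T : Subgroup G))
    rw [inv_inv, ← hm, hT']; exact pow_mem (c _) m)
  replace hn : n ∈ 𝐍(φ.range) := hT' ▸ hn
  obtain ⟨N, a⟩ := exists_ac hn
  obtain ⟨N', b⟩ := exists_ac (inv_mem hn)
  have ab : N * N' = 1 := (a.mul b).uniq i (by simpa using ac_one)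
  have ba : N' * N = 1 := (b.mul a).uniq i (by simpa using ac_one)
  have e1 : N' *ᵥ u = (m : ZMod p) • ![1, 0, 0] := ofAdd.injective (i (by
    rw [← b, inv_inv, ← e, inv_inv, ← hm, Nat.cast_smul_eq_nsmul, ofAdd_nsmul, map_pow]))
  have e2 : (m : ZMod p) • N *ᵥ ![1, 0, 0] = u := by rw [← mulVec_smul, ← e1, mulVec_mulVec, ab, one_mulVec]
  have m0 : (m : ZMod p) ≠ 0 := fun e => h0 (by rw [← e2, e, zero_smul])
  refine ⟨N, ⟨_, a⟩, N', ⟨_, b⟩, ab, ba, ?_⟩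
  set π := vecMulVec (![1, 0, 0] : Fin 3 → ZMod p) (![1, 0, 0] : Fin 3 → ZMod p) with hπ
  have pp : π * π = π := by rw [hπ, vecMulVec_mul_vecMulVec]; simp
  have a1 : vecMulVec u l * (N * π * N') = N * π * N' := by
    rw [← mul_assoc, hπ, mul_vecMulVec N, mul_vecMulVec]
    congr 2
    exact smul_right_injective _ m0 (by simp only; rw [← mulVec_smul, e2, hl])
  have a2 : N * π * N' * vecMulVec u l = vecMulVec u l := by
    rw [mul_vecMulVec, ← mulVec_mulVec, ← mulVec_mulVec, e1, mulVec_smul, mulVec_smul, hπ, vecMulVec_mulVec]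
    simp [e2]
  have a3 : N * π * N' * (N * π * N') = N * π * N' := by
    rw [mul_assoc (N * π), ← mul_assoc N', ← mul_assoc N', ba, one_mul, ← mul_assoc, mul_assoc N, pp]
  have a4 : vecMulVec u l * vecMulVec u l = vecMulVec u l := by rw [mul_vecMulVec, hl]
  have a5 : N * (2 • π - 1) * N' * (2 • vecMulVec u l - 1) = 1 + (2 : ZMod p) • (vecMulVec u l - N * π * N') := by
    simp only [mul_sub, sub_mul, mul_one, one_mul, ab, two_smul, mul_add, add_mul, a2]; abel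
  have a6 : ((2 : ZMod p) • (vecMulVec u l - N * π * N')) ^ 2 = 0 := by
    rw [_root_.smul_pow, pow_two (_ - _), mul_sub, sub_mul, sub_mul, a1, a2, a3, a4]; simp
  have := unip i h4 _ (a5 ▸ mul_mem (mul_mem (mul_mem (show N ∈ AA φ from ⟨_, a⟩) hZ) ⟨_, b⟩) hT) (by
    rw [add_pow_char_of_commute _ (Commute.one_left _), one_pow, pow_eq_zero_of_le hp.out.two_le a6, add_zero])
  rw [add_eq_left, smul_eq_zero_iff_right h2, sub_eq_zero] at this
  exact this.symm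

omit i h4

namespace Hy

variable {z y q r s x : G} {j : ℕ} (h : Hy p z y q r s) (x1 : x ≠ 1) (xp : x ^ p = 1) (yx : Commute y x)
  (tx : Commute (s * q) x) (zx : z * x * z⁻¹ = x⁻¹) (sx : s * x * s⁻¹ = x ^ j)
include h x1 xp yx zx sx

omit [Finite G] in
theorem facts : (j : ZMod p) * j = -1 ∧ (r * x * r⁻¹) ^ p = 1 ∧ Commute y (r * x * r⁻¹) ∧
    r * (r * x * r⁻¹) * r⁻¹ = x⁻¹ ∧ s * (r * x * r⁻¹) * s⁻¹ = (r * x * r⁻¹) ^ j := by
  refine ⟨?_, by rw [conj_pow, xp]; simp, (h.ry.symm.mul_right yx).mul_right h.ry.symm.inv_right,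
    by rw [← zx, ← h.rr]; group, by
      rw [conj_pow, ← sx, ← mul_assoc r, ← mul_assoc r, ← h.sr.eq, mul_assoc (_ * x), h.sr.inv_inv.eq]; group⟩
  have : x ^ (j * j + 1) = 1 := by
    rw [pow_succ, pow_mul, ← sx, conj_pow, ← sx, mul_eq_one_iff_eq_inv, ← zx, ← h.ss]; group
  have := (ZMod.natCast_eq_zero_iff _ p).2 ((orderOf_eq_prime xp x1).symm.dvd.trans (orderOf_dvd_of_pow_eq_one this))
  push_cast at this
  exact eq_neg_of_add_eq_zero_left this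

include tx

theorem three (h2 : p ≠ 2) (c : ⁅x, r * x * r⁻¹⁆ ∈ zpowers y) (n : ⁅x, r * x * r⁻¹⁆ ≠ 1) :
    ∃ (ψ : Hs (ZMod p) →* G) (T : Sylow p G), Function.Injective ψ ∧ (T : Subgroup G) = ψ.range ∧ Three (Rd ψ) := by
  obtain ⟨jj, f1, f2, f3, f4⟩ := h.facts x1 xp yx zx sx
  have e := zpowers_eq_of_prime_card (((Nat.card_zpowers y).trans h.yp).symm ▸ hp.out) c n
  obtain ⟨m, hm⟩ := c
  obtain ⟨ψ, i, a, b, c⟩ := exists_hom (two_ne h2) xp f1 (w := ⁅x, r * x * r⁻¹⁆) (by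
      rw [← hm, ← zpow_natCast, ← _root_.zpow_mul, mul_comm, _root_.zpow_mul, zpow_natCast, ← h.yp,
        pow_orderOf_eq_one, _root_.one_zpow]) (hm ▸ yx.zpow_left m) (hm ▸ f2.zpow_left m)
    (by rw [commutatorElement_def]; group) n
  obtain ⟨T, hT⟩ := sylow_range i h.c3
  have k : ∀ u, Fz y (ψ u) → u.v ≠ 0 → Rd ψ u.v := fun u ⟨g, e'⟩ h0 => by
    obtain ⟨n, e'⟩ := e.ge e'
    exact rd_of_cj (two_ne h2) (cf_of i T hT) (g := g) (y := ⟨0, 2⟩ ^ n)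
      (e'.symm.trans (by rw [map_zpow, c])) h0 (zpow_mem (K := ZZ _) rfl n)
  obtain ⟨tt, ty⟩ := h.inv h.qq h.sq h.qy
  obtain ⟨tt', ty'⟩ := h.inv h.rr h.sr h.ry
  obtain ⟨g, hg⟩ := h.fz (h.cj _ tt ty) xp tx
  have j0 : (j : ZMod p) ≠ 0 := fun e => by simp [e] at jj
  have o : om ![0, (j : ZMod p)] ![-j, 0] ≠ 0 := by simpa [om] using j0
  have := cj_all (ι := ψ) (g := s * r) (two_ne h2) (act (cols _ _ o)).toMonoidHom
    (by
      rw [Cj, a, show (act (cols _ _ o)).toMonoidHom ⟨![1, 0], 0⟩ = ⟨![0, 1], 0⟩ ^ j from by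
        rw [pow_eq]; exact Hs.ext ((cols_smul ..).trans (by simp)) (by simp [act_apply]), map_pow, b, ← f4]
      group)
    (by
      rw [Cj, b, show (act (cols _ _ o)).toMonoidHom ⟨![0, 1], 0⟩ = (⟨![1, 0], 0⟩ ^ j)⁻¹ from by
        rw [pow_eq]; exact Hs.ext ((cols_smul ..).trans (by simp)) (by simp [act_apply]), map_inv, map_pow, a,
        ← sx, conj_inv, ← f3]
      group) ⟨![1, j], 0⟩
  rw [Cj, show (act (cols _ _ o)).toMonoidHom ⟨![1, j], 0⟩ = ⟨![1, j], 0⟩ from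
    Hs.ext ((cols_smul ..).trans (by simp [jj])) (by simp [act_apply]), mul_inv_eq_iff_eq_mul] at this
  exact ⟨ψ, T, i, hT, _, _, _, k ⟨![1, 0], 0⟩ ⟨g, a ▸ hg⟩ (by simp),
    k ⟨![0, 1], 0⟩ ⟨g * r⁻¹, by simpa [b, mul_assoc] using hg⟩ (by simp),
    k ⟨![1, j], 0⟩ (h.fz (h.cj _ tt' ty') (by rw [← map_pow, pow_eq]; simp; exact map_one ψ) this) (by simp),
    by simp [om], by simpa [om] using j0, by simp [om]⟩

end Hy

theorem mats : ∀ j : ZMod 13, j * j = -1 → ∀ S R T π π' : Matrix (Fin 3) (Fin 3) (ZMod 13),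
    S = !![-1, 0, 0; 0, j, 0; 0, 0, j] → R = !![1, 0, 0; 0, 0, -1; 0, 1, 0] → T = !![-1, 0, 0; 0, 1, 0; 0, 0, -1] →
    π = vecMulVec ![1, 0, 0] ![1, 0, 0] → π' = vecMulVec ![0, 1, j] ![0, 7, -7 * j] →
    (S * S = 2 • π - 1 ∧ T = 2 • vecMulVec ![0, 1, 0] ![0, 1, 0] - 1 ∧ S * R = 2 • π' - 1 ∧
      π' *ᵥ ![0, 1, j] = ![0, 1, j] ∧ (S * R) *ᵥ ![0, 1, j] = ![0, 1, j]) ∧ S = j • 1 - (1 + j) • π ∧
    j • 1 - (1 + j) • π' = !![j, 0, 0; 0, 7 * j + 6, 7 * j + 6; 0, 6 * j + 7, 7 * j + 6] ∧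
    (S * T * π = π ∧ π * (S * T) = π ∧ S * T * (S * T) = 2 • π - 1) ∧ (R * π = π ∧ π * R = π ∧ R * R = 2 • π - 1) ∧
    S * T * R = (2 • π - 1) * (R * (S * T)) := by
  rintro j hj _ _ _ _ _ rfl rfl rfl rfl rfl
  revert j
  decide +kernel

theorem ab_fin {X : Submonoid (Matrix (Fin 3) (Fin 3) (ZMod 13))} (h : ∀ M ∈ X, M ^ 13 = 1 → M = 1)
    {j : ZMod 13} (jj : j * j = -1) (hS : !![-1, 0, 0; 0, j, 0; 0, 0, j] ∈ X) (hR : !![1, 0, 0; 0, 0, -1; 0, 1, 0] ∈ X)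
    (hT : !![-1, 0, 0; 0, 1, 0; 0, 0, -1] ∈ X) :
    (∃ N ∈ X, ∃ N' ∈ X, N * N' = 1 ∧ N' * N = 1 ∧
      N * vecMulVec ![1, 0, 0] ![1, 0, 0] * N' = vecMulVec ![0, 1, 0] ![0, 1, 0]) →
    (∃ N ∈ X, ∃ N' ∈ X, N * N' = 1 ∧ N' * N = 1 ∧
      N * vecMulVec ![1, 0, 0] ![1, 0, 0] * N' = vecMulVec ![0, 1, j] ![0, 7, -7 * j]) → False := by
  rintro ⟨N, hN, N', hN', ab, ba, e1⟩ ⟨L, hL, L', hL', cd, -, e2⟩
  obtain ⟨⟨-, m1, -⟩, m2, m3, m4, m5, m6⟩ := mats j jj _ _ _ _ _ rfl rfl rfl rfl rfl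
  have h2 := mul_mem (mul_mem hL hS) hL'
  rw [m2, mul_sub, sub_mul, mul_smul_comm, mul_smul_comm, smul_mul_assoc, smul_mul_assoc, e2, mul_one, cd, m3] at h2
  generalize vecMulVec (![1, 0, 0] : Fin 3 → ZMod 13) (![1, 0, 0] : Fin 3 → ZMod 13) = π at *
  have mm : ∀ A B, N * A * N' * (N * B * N') = N * (A * B) * N' := fun A B => by
    rw [mul_assoc (N * A), ← mul_assoc N', ← mul_assoc N', ba, one_mul, ← mul_assoc, mul_assoc N]
  have m7 : N * (2 • π - 1) * N' = !![-1, 0, 0; 0, 1, 0; 0, 0, -1] := by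
    rw [m1, mul_sub, sub_mul, mul_one, ab, two_smul, mul_add, add_mul, e1, two_smul]
  have key : ∀ A ∈ X, A * π = π ∧ π * A = π ∧ A * A = 2 • π - 1 →
      ∃ a d, N * A * N' = !![a, 0, 0; 0, 1, 0; 0, 0, d] ∧ a * a = -1 := fun A hA ⟨b1, b2, b3⟩ => by
    have c1 := mm A π
    have c2 := mm π A
    have c3 := mm A A
    have hM := mul_mem (mul_mem hN hA) hN'
    rw [b3, m7] at c3
    rw [b1, e1] at c1
    rw [b2, e1] at c2
    generalize N * A * N' = M at c1 c2 c3 hM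
    have d1 := fun a => congrFun (congrFun c1 a) 1
    have d2 := fun a => congrFun (congrFun c2 1) a
    simp only [Matrix.mul_apply, Fin.sum_univ_three, vecMulVec_apply, Fin.forall_fin_succ] at d1 d2
    simp at d1 d2
    have eM : M = !![M 0 0, 0, M 0 2; 0, 1, 0; M 2 0, 0, M 2 2] := by
      ext a b; fin_cases a <;> fin_cases b <;> simp [d1, d2]
    rw [eM] at c3 hM
    have g1 := congrFun (congrFun c3 0) 0
    have g2 := congrFun (congrFun c3 0) 2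
    have g3 := congrFun (congrFun c3 2) 0
    simp at g1 g2 g3
    obtain ⟨u1, u2⟩ := ab_key h jj hS h2 hM g1 (by linear_combination g2) (by linear_combination g3)
    exact ⟨_, _, by rw [eM, u1, u2], by simpa [u1] using g1⟩
  obtain ⟨a, d, a1, a2⟩ := key _ (mul_mem hS hT) m4
  obtain ⟨b, c, b1, b2⟩ := key _ hR m5
  have e := mm _ _ |>.trans ((congrArg (N * · * N') m6).trans (mm _ _).symm)
  rw [m7, ← mm !![1, 0, 0; 0, 0, -1; 0, 1, 0], a1, b1] at e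
  have := congrFun (congrFun e 0) 0
  simp at this
  exact (by decide +kernel : ∀ a b : ZMod 13, a * a = -1 → b * b = -1 → a * b ≠ -(b * a)) a b a2 b2 this

theorem Hy.not_comm {z y q r s x : G} {j : ℕ} (h : Hy 13 z y q r s) (x1 : x ≠ 1) (xp : x ^ 13 = 1)
    (yx : Commute y x) (tx : Commute (s * q) x) (zx : z * x * z⁻¹ = x⁻¹) (sx : s * x * s⁻¹ = x ^ j) :
    ¬ Commute x (r * x * r⁻¹) := fun c => by
  obtain ⟨jj, f1, f2, f3, f4⟩ := h.facts x1 xp yx zx sx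
  obtain ⟨qz, rz, sz, zy⟩ := h.zc
  obtain ⟨tt, ty⟩ := h.inv h.qq h.sq h.qy
  obtain ⟨tt', ty'⟩ := h.inv h.rr h.sr h.ry
  have yp : y ^ 13 = 1 := h.yp ▸ pow_orderOf_eq_one y
  have y1 : y ≠ 1 := fun e => by simpa [e] using h.yp
  obtain ⟨φ, a0, a1, a2⟩ := exists_phi yp xp f1 yx f2 c
  have n : ∀ v w, w = -v → (φ (ofAdd v))⁻¹ = φ (ofAdd w) := fun v w e => by rw [e, ofAdd_neg, map_inv]
  have m : ∀ v w, w = (j : ZMod 13) • v → φ (ofAdd v) ^ j = φ (ofAdd w) := fun v w e => by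
    rw [e, Nat.cast_smul_eq_nsmul, ofAdd_nsmul, map_pow]
  have aS : Ac φ s !![-1, 0, 0; 0, j, 0; 0, 0, j] := ac_of (by rw [a0, h.sy, ← a0]; exact n _ _ (by simp))
    (by rw [a1, sx, ← a1]; exact m _ _ (by simp)) (by rw [a2, f4, ← a2]; exact m _ _ (by simp))
  have aR : Ac φ r !![1, 0, 0; 0, 0, -1; 0, 1, 0] := ac_of (by rw [a0, h.ry.eq, ← a0]; simp)
    (by rw [a1, ← a2]; simp) (by rw [a2, f3, ← a1]; exact n _ _ (by simp))
  have aT : Ac φ (s * q) !![-1, 0, 0; 0, 1, 0; 0, 0, -1] := ac_of (by rw [a0, ty, ← a0]; exact n _ _ (by simp))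
    (by rw [a1, tx.eq, ← a1]; simp [mul_assoc]) (Eq.trans (by
      have e : s * q * r = r * (z * (s * q)) := by
        rw [mul_assoc, h.qr, ← mul_assoc r, rz.eq, ← mul_assoc s, sz.eq, mul_assoc, mul_assoc, ← mul_assoc s,
          h.sr.eq, mul_assoc]
      rw [a2, conj_inv, ← zx]
      calc _ = s * q * r * x * (s * q * r)⁻¹ := by group
        _ = r * (z * (s * q * x * (s * q)⁻¹) * z⁻¹) * r⁻¹ := by rw [e]; group
        _ = _ := by rw [tx.eq, mul_inv_cancel_right]) (n ![0, 0, 1] _ (by simp)))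
  generalize (j : ZMod 13) = j at jj aS
  have h2 : (2 : ZMod 13) ≠ 0 := by decide
  have i : Function.Injective φ := (injective_iff_map_eq_one φ).2 fun v e => by
    have k : ∀ {g M}, Ac φ g M → φ (ofAdd (v.toAdd + M *ᵥ v.toAdd)) = 1 := fun a => by
      rw [ofAdd_add, map_mul, ← a, ofAdd_toAdd, e]; simp
    have e0 : 2 * v.toAdd 0 = 0 := val_eq_zero yp y1 (by
      rw [← k (aS.mul aS), ← a0, ← phi_smul]
      congr 2; ext i; fin_cases i <;> simp [mulVec, dotProduct, Fin.sum_univ_three, jj, two_mul])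
    have e1 : 2 * v.toAdd 1 = 0 := val_eq_zero xp x1 (by
      rw [← k aT, ← a1, ← phi_smul]
      congr 2; ext i; fin_cases i <;> simp [mulVec, dotProduct, Fin.sum_univ_three, two_mul])
    rw [mul_eq_zero_iff_left h2] at e0 e1
    have e2 : v.toAdd 2 = 0 := val_eq_zero f1 (by simpa using x1) (by
      rw [← e, ← a2, ← phi_smul]
      congr 1; ext i; fin_cases i <;> simp [e0, e1])
    ext i; fin_cases i <;> simp [e0, e1, e2]
  obtain ⟨⟨m1, m2, m3, m4, m5⟩, -⟩ := mats j jj _ _ _ _ _ rfl rfl rfl rfl rfl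
  exact ab_fin (unip i h.c3) jj ⟨_, aS⟩ ⟨_, aR⟩ ⟨_, aT⟩ (exists_proj i h.c3 h2 (by simp)
    (by rw [a0, a1]; exact h.fz (h.cj _ tt ty) xp tx) (by decide) ⟨_, m1 ▸ aS.mul aS⟩ ⟨_, m2 ▸ aT⟩)
    (exists_proj i h.c3 h2 (by simp) (a0 ▸ h.fz (h.cj _ tt' ty') (by
      rw [← map_pow, ← ofAdd_nsmul, ← Nat.cast_smul_eq_nsmul (ZMod 13), ZMod.natCast_self, zero_smul, ofAdd_zero,
        map_one]) (mul_inv_eq_iff_eq_mul.1 ((aS.mul aR _).trans (by rw [m5])))) m4 ⟨_, m1 ▸ aS.mul aS⟩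
      ⟨_, m3 ▸ aS.mul aR⟩)

theorem Hy.md {G : Type} [Group G] [Finite G] {z y q r s : G} (h : Hy 13 z y q r s) : Md 13 fun _ => True := by
  obtain ⟨x, x1, xp, yx, tx, zx, ⟨j, sx⟩, c⟩ := h.exists_x (by decide)
  obtain ⟨ψ, T, a, b, c⟩ := h.three x1 xp yx tx zx sx (by decide) c fun e =>
    h.not_comm x1 xp yx tx zx sx (commutatorElement_eq_one_iff_commute.1 e)
  exact ⟨G, _, ‹_›, ψ, T, a, b, c, trivial⟩

theorem eqns_AbG : True := by
  have := @Ac.eq_1.{0}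
  have := @AA.eq_1.{0}
  trivial

end H39.RV
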