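import Mathlib
import Cfsg.Agent.Lib.MRec.Wc
import Cfsg.Agent.Lib.Transfer.Control
import Cfsg.Agent.Lib.RV.Gen

/-!
An element of order 13 in an involution centraliser of Monster type.
-/

set_option autoImplicit false

namespace H39.RV

open Subgroup Cfsg H45 H69 H16 H95 H75.WC

theorem anti {X : Type*} [Group X] {n a b : X} (nn : n * n = 1) (c : ∀ g, g * n = n * g) (aa : a * a = n)
    (bb : b * b = n) (ab : a * b * (a * b) = n) : b * a = n * (a * b) := by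
  have e1 : a * (b * a) * b = a * (n * (a * b)) * b := by
    calc a * (b * a) * b = a * b * (a * b) := by group
      _ = n * ((a * a) * (b * b)) := by rw [ab, aa, bb, nn, mul_one]
      _ = _ := by rw [← mul_assoc a n, c a]; group
  exact mul_left_cancel (mul_right_cancel e1)

theorem mon_iso {G : Type*} [Group G] [Finite G] {z : G} {Q : Subgroup G} {φ : centralizer ({z} : Set G) →* Spor.Co1}
    {cls : leechLattice → G → Prop} (M : Mon z Q φ cls) {y q r : G} (y13 : y ^ 13 = 1) (qq : q * q = z)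
    (rr : r * r = z) (qr : q * r = z * (r * q)) (qy : Commute q y) (ry : Commute r y)
    (fp : ∀ u ∈ Q, Commute u y → u = 1 ∨ u = z) {γ : Co0} (γγ : γ * γ = negCo0)
    (hγ : ∀ v u, cls v u → cls (γ • v) (q * u * q⁻¹)) (t : G) (tt : t * t = 1) (ty : Commute t y)
    (tz : Commute t z) : t = 1 ∨ t = z := by
  have : Fact (Nat.Prime 13) := ⟨by decide⟩
  have zz := M.h.sq
  have mc : ∀ {a b : G}, a ∈ 𝐂[b] ↔ Commute a b := mem_centralizer_singleton_iff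
  have cz : ∀ a, a * a = z → Commute a z := fun a e => e ▸ (Commute.refl a).mul_right (.refl a)
  have p4 : ∀ a, a * a = z → IsPGroup 2 (zpowers a) := fun a e => pg_zpowers (k := 2) (by
    rw [show 2 ^ 2 = 2 * 2 from rfl, pow_mul, pow_two a, e, pow_two, zz])
  have rq : r * q * r⁻¹ = z * q := by rw [mul_inv_eq_iff_eq_mul, mul_assoc, qr, ← mul_assoc, zz, one_mul]
  have zq : z ∈ zpowers q := qq ▸ mul_mem (mem_zpowers q) (mem_zpowers q)
  have nq : ∀ a, a * q * a⁻¹ ∈ zpowers q → a ∈ 𝐍(zpowers q) := fun a e => mem_normalizer_fintype (by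
    rintro _ ⟨n, rfl⟩
    simpa only [conj_zpow, SetLike.mem_coe] using zpow_mem e n)
  have qH : zpowers q ≤ 𝐂[y] ⊓ 𝐂[z] := zpowers_le.2 ⟨mc.2 qy, mc.2 (cz q qq)⟩
  obtain ⟨T, hT, le⟩ := Sylow_superset (p := 2) (sup_le (zpowers_le.2 (mem_inf.2 ⟨mc.2 ry, mc.2 (cz r rr)⟩)) qH)
    ((p4 r rr).to_sup_of_normal_right' (p4 q qq) (zpowers_le.2 (nq r (rq ▸ mul_mem zq (mem_zpowers q)))))
  have qT : q ∈ T := le (mem_sup_right (mem_zpowers q))
  have rT : r ∈ T := le (mem_sup_left (mem_zpowers r))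
  have cQ : ∀ a, Commute a z → ∀ u ∈ Q, a * u * a⁻¹ ∈ Q := fun a e u => (mem_normalizer_iff.1 (M.h.norm a e) u).1
  have A : ∀ S ≤ 𝐂[y] ⊓ 𝐂[z], ∀ u ∈ Q ⊓ 𝐍(S), ∀ a ∈ S, a * u * a⁻¹ = u ∨ a * u * a⁻¹ = u * z :=
    fun S hS u hu a ha => by
      have m : u⁻¹ * (a * u * a⁻¹) ∈ S := by
        simpa only [mul_assoc, inv_inv] using mul_mem ((mem_normalizer_iff.1 (inv_mem hu.2) a).1 ha) (inv_mem ha)
      simpa only [inv_mul_eq_iff_eq_mul, mul_one] using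
        fp _ (mul_mem (inv_mem hu.1) (cQ a (mc.1 (hS ha).2) u hu.1)) (mc.1 (hS m).1)
  have B : ∀ u, q * u * q⁻¹ = u ∨ q * u * q⁻¹ = u * z → u ∈ 𝐍(zpowers q) := fun u e => by
    refine inv_mem_iff.1 (nq _ ?_)
    rw [show u⁻¹ * q * u⁻¹⁻¹ = u⁻¹ * (q * u * q⁻¹) * q by group]
    rcases e with e | e <;> rw [e]
    · simp
    · simpa using mul_mem zq (mem_zpowers q)
  have zc : Nat.card (zpowers z) = 2 := by rw [Nat.card_zpowers, orderOf_eq_prime (by rw [pow_two, zz]) M.h.ne_one]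
  have C : ∀ S ≤ 𝐂[y] ⊓ 𝐂[z], z ∈ S → ∃ k, (k = 1 ∨ k = 13 ∨ k = 25) ∧ Nat.card ↥(Q ⊓ 𝐍(S)) = 2 ^ k :=
    fun S hS hz => by
      have zy := mc.1 (hS hz).1
      have e := H4.card_modEq_card_inf_centralizer (Q := Q ⊓ 𝐍(S)) (q := 13) (g := y) (k := 1)
        (inf_normalizer_le_normalizer_inf ⟨M.h.norm y zy.symm, le_normalizer (centralizer_le_normalizer _
          fun a ha => mc.1 (hS ha).1)⟩) y13
      rw [show Q ⊓ 𝐍(S) ⊓ 𝐂[y] = zpowers z from le_antisymm (fun u hu => M.h.mem_zpowers.2 (fp u hu.1.1 (mc.1 hu.2)))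
        (zpowers_le.2 ⟨⟨M.h.mem, le_normalizer hz⟩, mc.2 zy⟩), zc] at e
      obtain ⟨k, hk, ek⟩ := (Nat.dvd_prime_pow Nat.prime_two).1 (M.card ▸ card_dvd_of_le (inf_le_left : Q ⊓ 𝐍(S) ≤ Q))
      rw [ek] at e
      refine ⟨k, ?_, ek⟩
      clear * - e hk
      revert e
      interval_cases k <;> decide
  have nQ : ∀ a, Commute a y → a * a = z → a ∉ Q := fun a c e h => by
    rcases fp a h c with rfl | rfl
    exacts [M.h.ne_one (by simpa using e.symm), M.h.ne_one (e.symm.trans zz)]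
  have le1 : Q ⊓ 𝐍(T) ≤ Q ⊓ 𝐍(zpowers q) := fun u hu => ⟨hu.1, B u (A T hT.le u hu q qT)⟩
  have lt2 : Q ⊓ 𝐍(zpowers q) < Q := lt_of_le_of_ne inf_le_left fun e => nQ q qy qq
    (M.h.mem_of_trivial fun u hu => A _ qH u (e.symm ▸ hu) q (mem_zpowers q))
  have nT : T ≤ 𝐍(Q) := fun a ha => M.h.norm a (mc.1 (hT.le ha).2)
  have lt1 : zpowers z < Q ⊓ 𝐍(T) := by
    obtain ⟨a, ha, b, hb, n⟩ := M.h.nonab
    obtain ⟨g, hg, n'⟩ := SetLike.exists_of_lt (H4.lt_inf_normalizer_of_lt (p := 2) (D := T)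
      (hT.isP.to_sup_of_normal_right' (IsPGroup.of_card M.card) nT) (lt_of_le_of_ne le_sup_left fun e => n (by
        rcases fp a ha (mc.1 (hT.le (e ▸ mem_sup_right ha)).1) with rfl | rfl
        exacts [by simp, (M.h.central b hb).symm])))
    obtain ⟨c, hc, u, hu, rfl⟩ := (H3.mem_sup_iff_of_le_normalizer' nT).1 hg.1
    have zT : zpowers z ≤ T := zpowers_le.2 (qq ▸ mul_mem qT qT)
    exact lt_of_le_of_ne (le_inf M.h.zpowers_le (zT.trans le_normalizer)) fun e => n' (mul_mem hc (zT (e ▸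
      ⟨hu, (mul_mem_cancel_left (le_normalizer hc)).1 hg.2⟩)))
  have eq : Q ⊓ 𝐍(T) = Q ⊓ 𝐍(zpowers q) := by
    obtain ⟨k, hk, ek⟩ := C T hT.le (qq ▸ mul_mem qT qT)
    obtain ⟨l, hl, el⟩ := C _ qH zq
    have a1 := H1.card_lt_of_lt lt1
    have a2 := card_le_of_le le1
    have a3 := H1.card_lt_of_lt lt2
    refine eq_of_le_of_card_ge le1 ?_
    rw [ek, el, zc, M.card] at *
    rcases hk with rfl | rfl | rfl <;> rcases hl with rfl | rfl | rfl <;> omega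
  have F : ∀ a : 𝐂[z], a.1 ∈ T → a.1 ∉ Q → ∀ κ, mk1 κ = φ a → κ * κ = negCo0 := fun a ha n κ hκ => by
    refine (fixW_neg (mon_nondeg M) (mon_faithful M) γγ ?_).resolve_left fun e => n ((M.ker a).1 (hκ ▸ e))
    rintro x ⟨v, hv⟩
    obtain ⟨u, hu⟩ := M.ex_elt v
    have w := M.congr (M.add (hγ v u hu) hu) hv
    refine ((M.eq_iff w (M.smul a κ hκ w)).2 (A T hT.le _ (eq ▸ ⟨M.mem w, B _ ?_⟩) a ha)).symm
    rw [show q * (q * u * q⁻¹ * u) * q⁻¹ = q * q * u * (q * q)⁻¹ * (q * u * q⁻¹) by group, qq,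
      ← M.h.central u (M.mem hu), mul_inv_cancel_right]
    exact M.h.comm _ (M.mem hu) _ (M.mem (hγ v u hu))
  obtain ⟨k, hk, e⟩ := hT.exists_cj_le (R := zpowers t) (pg_zpowers (k := 1) (by simpa [pow_two] using tt))
    (zpowers_le.2 ⟨mc.2 ty, mc.2 tz⟩)
  replace e : k * t * k⁻¹ ∈ T := e (cj_mem k (mem_zpowers _))
  suffices h : k * t * k⁻¹ = 1 ∨ k * t * k⁻¹ = z by
    refine h.imp conj_eq_one_iff.1 fun h => ?_
    rw [mul_inv_eq_iff_eq_mul, ← (mc.1 hk.2).eq] at h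
    exact mul_left_cancel h
  replace tt : k * t * k⁻¹ * (k * t * k⁻¹) = 1 := by rw [conj_mul, tt]; simp
  generalize k * t * k⁻¹ = t at e tt
  by_contra n
  have tQ : t ∉ Q := fun h => n (fp t h (mc.1 (hT.le e).1))
  have n2 : ∀ a ∈ T, a * a = z → t * a ∉ Q := fun a ha aa h => by
    have c := cz a aa
    rcases fp _ h (mc.1 (hT.le (mul_mem e ha)).1) with f | f
    · rw [eq_inv_of_mul_eq_one_left f, ← mul_inv_rev, aa, inv_eq_one] at tt
      exact M.h.ne_one tt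
    · rw [eq_mul_inv_of_mul_eq f, c.symm.inv_right.symm.mul_mul_mul_comm, zz, ← mul_inv_rev, aa, one_mul,
        inv_eq_one] at tt
      exact M.h.ne_one tt
  have qr2 : q * r * (q * r) = z := by
    nth_rw 2 [qr]
    rw [← mul_assoc, (((cz q qq).mul_left (cz r rr))).eq, mul_assoc, mul_assoc, ← mul_assoc r, rr, ← (cz q qq).eq,
      ← mul_assoc q, qq, zz, mul_one]
  obtain ⟨τ, hτ⟩ := mk1_surj (φ ⟨t, (hT.le e).2⟩)
  obtain ⟨α, hα⟩ := mk1_surj (φ ⟨q, (hT.le qT).2⟩)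
  obtain ⟨β, hβ⟩ := mk1_surj (φ ⟨r, (hT.le rT).2⟩)
  have an : ∀ a : 𝐂[z], a.1 ∈ T → a.1 * a = z → ∀ κ, mk1 κ = φ a → κ * τ = negCo0 * (τ * κ) := fun a ha aa κ hκ =>
    anti negCo0_mul_self neg_comm (F _ e tQ τ hτ) (F a ha (nQ _ (mc.1 (hT.le ha).1) aa) κ hκ)
      (F (⟨t, (hT.le e).2⟩ * a) (mul_mem e ha) (n2 _ ha aa) _ (by rw [map_mul, map_mul, hτ, hκ]))
  have a3 := an (⟨q, (hT.le qT).2⟩ * ⟨r, (hT.le rT).2⟩) (mul_mem qT rT) qr2 (α * β) (by rw [map_mul, map_mul, hα, hβ])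
  rw [mul_assoc, an _ rT rr β hβ, ← mul_assoc, neg_comm, mul_assoc, mul_right_inj, ← mul_assoc, an _ qT qq α hα,
    mul_assoc, mul_assoc, mul_eq_right] at a3
  exact negCo0_ne_one a3

end H39.RV
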