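import Cfsg.Agent.Lib.Th.Struct
import Cfsg.Agent.Lib.RV.Red

/-!
The Thompson group has three radical lines at the prime five.
-/

set_option autoImplicit false
set_option maxRecDepth 100000

namespace H39.RV

open H54 H78.Vec H78.Th Cfsg.Spor Subgroup

/-- The codes of words and their inverses. -/
noncomputable def extL (mm : ℕ → ℕ → ℕ) (o : ℕ) (L : List ℕ) (W : List (List ℕ)) : List ℕ :=
  List.rec (motive := fun _ => List ℕ) [] (fun w _ ih => wlV mm L w o :: wlV mm L (invA w []) o :: ih) W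

/-- The words and their inverses are well formed. -/
noncomputable def wf2 (m : ℕ) (W : List (List ℕ)) : Bool := allL (fun w => band (wf1 m w) (wf1 m (invA w []))) W

/-- Equalities between words in two stages. -/
noncomputable def eq2 (p : Par) (L : List ℕ) (W W' : List (List ℕ)) (Q : List (List ℕ × List ℕ)) : Bool :=
  p.withM p.n fun mm => force p.one fun o => withL L fun L => withL (extL mm o L W) fun L1 =>
    withL (extL mm o L1 W') fun L2 => allL (fun e => Nat.beq (wlV mm L2 e.1 o) (wlV mm L2 e.2 o)) Q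

section
variable {p : Par} {G : Type*} [Group G] {φ : G →* Matrix (Fin p.n) (Fin p.n) (ZMod p.P)}
  {x : ℕ → G} {m : ℕ} {L : List ℕ}

theorem let_wl (h : p.Good) (a : Let φ x m L) {w : List ℕ} (e : wf1 m w = true) :
    p.R p.n (φ (evW x w)) (wlV (p.mm p.n) L w p.one) := by
  simpa using a.wlV h (Par.R_one h) w (wf1_spec e)

theorem let_ext (h : p.Good) (a : Let φ x m L) : ∀ W : List (List ℕ), wf2 m W = true →
    Let φ (fun i => evW x (nthW W i)) W.length (extL (p.mm p.n) p.one L W)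
  | [], _ => fun _ hl => absurd hl (Nat.not_lt_zero _)
  | w :: W, e => by
    obtain ⟨e1, e2⟩ := (band_eq_true _ _).1 e
    obtain ⟨e3, e4⟩ := (band_eq_true _ _).1 e1
    rintro (_ | _ | l) hl
    · exact let_wl h a e3
    · have := let_wl h a e4
      rwa [evW_invA, evW_nil, mul_one] at this
    · have := let_ext h a W e2 l (by rw [List.length_cons] at hl; omega)
      rw [xl, show l + 1 + 1 = l + 2 from rfl, Nat.add_mod_right, Nat.add_div_right _ Nat.two_pos]
      exact this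

theorem eq2_spec (h : p.Good) (a : Let φ x m L) (hφ : Function.Injective φ) {W W' : List (List ℕ)}
    {Q : List (List ℕ × List ℕ)} (e1 : wf2 m W = true) (e2 : wf2 W.length W' = true)
    (e3 : allL (fun e => band (wf1 W'.length e.1) (wf1 W'.length e.2)) Q = true) (e : eq2 p L W W' Q = true) :
    ∀ t ∈ Q, evW (fun i => evW (fun i => evW x (nthW W i)) (nthW W' i)) t.1 =
      evW (fun i => evW (fun i => evW x (nthW W i)) (nthW W' i)) t.2 := fun t ht => by
  rw [eq2, p.withM_eq h, force_eq, withL_eq, withL_eq, withL_eq] at e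
  simp only [allL_iff, band_eq_true, Nat.beq_eq] at e e3
  have b := let_ext h (let_ext h a W e1) W' e2
  exact hφ ((e t ht ▸ let_wl h b (e3 t ht).1).eq h (let_wl h b (e3 t ht).2))

end

/-- The words. -/
def thW : List (List ℕ) := [[6, 8, 10, 15], [15, 6, 2, 0, 4, 2, 6, 8, 15, 6, 2, 0, 4, 2, 15, 10, 10, 8, 6, 14, 6, 4]]

theorem th_ok : eq2 par LM thW [[0, 0, 0], [2, 0, 0, 0, 3], [0]] [([0, 0, 0], [1, 1]), ([0, 2], [2, 0]),
    ([2, 4, 2, 5], [0, 4, 2, 5, 2]), ([2, 4, 2, 5, 0, 0], [4, 4, 3, 5, 5])] = true := by decide +kernel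

theorem th_ne : neV par LM 8 2 (spread 2 20 8 (2 ^ 400)) [([6, 8, 10, 15, 6, 8, 10, 15, 6, 8, 10, 15], [])] =
    true := by decide +kernel

theorem three_of' {p : ℕ} [Fact p.Prime] {G : Type*} [Group G] [Finite G] (h2 : p ≠ 2)
    (h4 : ¬ p ^ 4 ∣ Nat.card G) {w h y x : G} (hx : x = h * y * h⁻¹) (hy : y ^ p = 1) (h1 : y ≠ 1)
    (wy : Commute w y) (yx : Commute y x) (e : x * (w * x * w⁻¹) = y * (w * x * w⁻¹ * x)) {k : ℕ}
    (e' : x * (w * x * w⁻¹) * y ^ k = w * (w * x⁻¹ * w⁻¹) * w⁻¹) :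
    ∃ (ψ : Hs (ZMod p) →* G) (T : Sylow p G), Function.Injective ψ ∧ (T : Subgroup G) = ψ.range ∧
      Three (Rd ψ) ∧ ψ ⟨![1, 0], 0⟩ = x ∧ ψ ⟨![0, 1], 0⟩ = w * x * w⁻¹ := by
  have a : x ^ p = 1 := by rw [hx, conj_pow, hy]; simp
  refine three_of h2 h4 a (by rw [conj_pow, a]; simp) hy yx
    ((wy.symm.mul_right yx).mul_right wy.symm.inv_right) e h1 ⟨h⁻¹, by simp [hx, mul_assoc]⟩
    ⟨(w * h)⁻¹, by simp [hx, mul_assoc]⟩ (i := 1) (j := 1) (k := k) (by simp) (by simp) ⟨(w * w * h)⁻¹, ?_⟩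
  rw [pow_one, pow_one, e']
  simp [hx, mul_assoc]

theorem md_five : Md 5 fun _ => True := by
  have e := eq2_spec par_ok letφ (Units.val_injective.comp ρ_inj) (by decide +kernel) (by decide +kernel)
    (by decide +kernel) th_ok
  have n : evW x (nthW thW 0 ++ (nthW thW 0 ++ nthW thW 0)) ≠ 1 := fun a =>
    letφ.ne par_ok th_ne _ List.mem_cons_self (congrArg φ a)
  rw [evW_append, evW_append] at n
  obtain ⟨u, hu⟩ : ∃ u, u = fun i => evW x (nthW thW i) := ⟨_, rfl⟩
  obtain ⟨v, hv⟩ : ∃ v, v = fun i => evW u (nthW [[0, 0, 0], [2, 0, 0, 0, 3], [0]] i) := ⟨_, rfl⟩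
  rw [← hu, ← hv] at e
  have v0 : v 0 = u 0 * (u 0 * u 0) := hv ▸ show evW u [0, 0, 0] = _ by simp [xl]
  have v1 : v 1 = u 1 * v 0 * (u 1)⁻¹ := v0 ▸ hv ▸ show evW u [2, 0, 0, 0, 3] = _ by simp [xl, mul_assoc]
  have v2 : v 2 = u 0 := hv ▸ show evW u [0] = _ by simp [xl]
  simp only [List.forall_mem_cons, evW_cons, evW_nil, xl, mul_one, Nat.reduceMod, Nat.reduceDiv, if_true,
    if_false, Nat.one_ne_zero, v2] at e
  obtain ⟨ψ, T, a, b, c, -⟩ := three_of' (p := 5) (by decide) (by rw [card_Th]; norm_num) (w := u 0) v1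
    (by rw [show v 0 ^ 5 = v 0 * (v 0 * v 0) * (v 0 * v 0) by simp [pow_succ, mul_assoc], e.1]; simp) (by rwa [v0, hu])
    (v0 ▸ (Commute.refl _).mul_right ((Commute.refl _).mul_right (.refl _))) e.2.1
    (by simpa only [mul_assoc] using e.2.2.1) (k := 2) (by simpa only [mul_assoc, pow_two] using e.2.2.2.1)
  exact ⟨_, _, finite_Th, ψ, T, a, b, c, trivial⟩

theorem eqns_Th : True := by
  have := @extL.eq_1
  have := @wf2.eq_1
  have := @eq2.eq_1
  have := @thW.eq_1
  trivial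

end H39.RV
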