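import Mathlib
import Cfsg.Agent.Lib.Twist.BT
import Cfsg.Agent.Lib.Chev.TitsW
import Cfsg.Agent.Lib.RV.Red

/-!
The Tits group and its extension of degree two give the two systems with four radical lines at the prime three.
-/

set_option autoImplicit false
set_option maxRecDepth 100000

namespace H39.RV

open Subgroup Cfsg Cfsg.Lie H38 H38.TitsW H93.SX

theorem cent_par {ι : Type} [Finite ι] {R : RS ι (Fin 4)} {G : Type*} [Group G] [Finite G]
    {E : Elts R (ZMod 2) G} {T : Tw E} {e : ℕ} (h : H39.IsF4 T e) {a : G} (ha : a ∈ T.Γ) (h2 : orderOf a = 2)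
    {X : Type*} [Group X] {f : X →* G} (hf : Function.Injective f) (hb : ∀ x, f x ∈ T.Γ)
    (hab : ∀ x, Commute a (f x)) : ¬ 9 ∣ Nat.card X := by
  obtain ⟨γ, hγ, J, hJ, a1, a2⟩ := h.good.borel_tits 2 h.h3 (X := zpowers a)
    (IsPGroup.of_card (n := 1) (by rw [Nat.card_zpowers, h2, pow_one]))
    (by rw [MonoidHom.map_zpowers]; exact congrArg _ (T.mem_Γ.mp ha))
  obtain ⟨k, hk⟩ : ∃ k, k ∉ J := by
    by_contra hn
    have := a1 a (mem_zpowers a)
    rw [Set.eq_univ_of_forall (s := J) (by simpa using hn), H64.SBN.UJ_univ, mem_bot,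
      mul_inv_eq_one, mul_eq_left] at this
    simp [this] at h2
  have hk' : ∀ j ∈ T.S.orb k, j ∉ J := fun j hj =>
    T.S.orb_induction (P := fun j => j ∉ J) hk (fun j h1 h2 => h1 ((hJ j).mp h2)) hj
  obtain ⟨i, hi, hJi⟩ : ∃ i, (i = 0 ∨ i = 1) ∧ J ⊆ T.S.orb i := by
    rcases h.orb_cases k with h1 | h1
    · exact ⟨1, Or.inr rfl, fun j hj => (h.orb_cases j).resolve_left fun h2 =>
        hk' j (by rwa [T.S.orb_eq_of_mem h1]) hj⟩
    · exact ⟨0, Or.inl rfl, fun j hj => (h.orb_cases j).resolve_right fun h2 =>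
        hk' j (by rwa [T.S.orb_eq_of_mem h1]) hj⟩
  have hd : Nat.card X ∣ Nat.card ↥(E.P (T.S.orb i) ⊓ T.Γ) := card_dvd_of_injective
    (((MulAut.conj γ).toMonoidHom.comp f).codRestrict _ fun x => ⟨E.P_mono hJi (a2 _ (centralizer_le_normalizer _
      (by rintro _ ⟨k, rfl⟩; exact ((hab x).zpow_left k).eq))), T.Γ.mul_mem (T.Γ.mul_mem hγ (hb x)) (T.Γ.inv_mem hγ)⟩)
    fun x y e => hf ((MulAut.conj γ).injective (congrArg Subtype.val e))
  rw [h.good.card_P_orb, T.card_B, h.card_U, h.card_H, Finite.card_option] at hd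
  have hc := h.card_PJ i
  intro h9
  replace hd := h9.trans hd
  rcases hi with rfl | rfl
  · rw [h.ln0, Real.sq_sqrt (Nat.cast_nonneg _), Nat.cast_inj] at hc
    rw [hc, ZMod.card] at hd
    norm_num at hd
  · rw [h.ln1, show ∀ x : ℝ, x ^ 4 = (x ^ 2) ^ 2 from fun x => by ring, Real.sq_sqrt (Nat.cast_nonneg _),
      ← Nat.cast_pow, Nat.cast_inj] at hc
    rw [hc, ZMod.card] at hd
    norm_num at hd

theorem cent_inv {a : twistedF4 (ZMod 2) 1} (h2 : orderOf a = 2) {ψ : Hs (ZMod 3) →* twistedF4 (ZMod 2) 1}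
    (i : Function.Injective ψ) : ¬ ∀ x, Commute a (ψ x) := fun c => by
  obtain ⟨R, E, hE, T, h, hA⟩ := exists_F4 (K := ZMod 2) (m := 0) rfl
  have : Finite (GL chevF4.Idx (ZMod 2)) := inferInstance
  have j := inclusion_injective (tw_le hA)
  exact cent_par h (a := inclusion (tw_le hA) a) ((mem_tw hA).mp a.2) ((orderOf_injective _ j a).trans h2)
    (f := (inclusion (tw_le hA)).comp ψ) (j.comp i) (fun x => (mem_tw hA).mp (ψ x).2) (fun x => (c x).map _)
    (by rw [card_Hs]; norm_num)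

/-- Conjugating words. -/
def tiW : List (List ℕ) := [[2, 3, 2, 3, 2, 1, 0, 2, 1, 3, 2, 3, 2], [3, 2, 0, 1, 3, 1, 3, 2, 3, 2, 0, 2, 0, 1, 3, 2],
  [3, 2, 0, 2, 0, 2, 3, 2, 1, 3, 2, 0, 2, 0, 2, 3]]

/-- Conjugates of an element of order three. -/
def tiX (i : ℕ) : List ℕ := tiW.getD i [] ++ [0, 1] ++ (tiW.getD i []).reverse

theorem three_tits : ∃ (ψ : Hs (ZMod 3) →* TitsGroup) (T : Sylow 3 TitsGroup), Function.Injective ψ ∧
    (T : Subgroup TitsGroup) = ψ.range ∧ Three (Rd ψ) := by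
  obtain ⟨L, h⟩ := exists_ev
  have : Finite TitsGroup := Nat.finite_of_card_ne_zero (by rw [card_tits]; norm_num)
  have f : ∀ i w, eqT ((tiW.getD i []).reverse ++ w) ([0, 1] ++ (tiW.getD i []).reverse) = true →
      Fz (L [0, 1]) (L w) := fun i w e => ⟨_, by rw [h.conj e]; exact mem_zpowers _⟩
  obtain ⟨ψ, T, a, b, c, -⟩ := three_of (p := 3) (by decide) (by rw [card_tits]; norm_num) (x := L (tiX 0))
    (y := L (tiX 1)) (w := L [0, 1]) (h.pow_eq_one (by decide +kernel)) (h.pow_eq_one (by decide +kernel))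
    (h.pow_eq_one (by decide +kernel)) (h.comm (by decide +kernel)) (h.comm (by decide +kernel))
    (by rw [← h.append, ← h.append, ← h.append]; exact h.eq _ _ (by decide +kernel))
    (h.ne _ 2 0 (by decide +kernel)) (f 0 _ (by decide +kernel)) (f 1 _ (by decide +kernel)) (i := 1) (j := 1)
    (k := 0) (by decide) (by decide)
    (by rw [pow_one, pow_one, pow_zero, mul_one, ← h.append]; exact f 2 _ (by decide +kernel))
  exact ⟨ψ, T, a, b, c⟩

theorem md_pair {Q : Type} [Group Q] [Finite Q] {K : Subgroup Q} (hK : K.index = 2) (h4 : ¬ 3 ^ 4 ∣ Nat.card Q)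
    (hc : ∀ a : Q, orderOf a = 2 → ∀ χ : Hs (ZMod 3) →* Q, Function.Injective χ → ¬ ∀ x, Commute a (χ x))
    {ψ : Hs (ZMod 3) →* K} {T : Sylow 3 K} (i : Function.Injective ψ) (hT : (T : Subgroup K) = ψ.range)
    (c : Three (Rd ψ)) : Md 3 Ty ∧ Md 3 fun W => ¬ Ty W := by
  have := normal_of_index_eq_two hK
  let χ := K.subtype.comp ψ
  have i' : Function.Injective χ := Subtype.val_injective.comp i
  obtain ⟨T', hT'⟩ := sylow_range i' h4
  have r : ∀ v, Rd ψ v → Rd χ v := fun v ⟨h0, A, ⟨g, e⟩, a⟩ => ⟨h0, A, ⟨g, fun w => congrArg Subtype.val (e w)⟩, a⟩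
  have le : WW ψ ≤ WW χ := fun M ⟨g, e⟩ => ⟨g, fun w => congrArg Subtype.val (e w)⟩
  have h2 : (2 : ZMod 3) ≠ 0 := by decide
  have ne : ¬ WW χ ≤ WW ψ := fun h => by
    obtain ⟨n, hn, h1⟩ : ∃ n ∈ nr χ ⊤, n ∉ K := by
      by_contra! e
      have := T.normalizer_sup_eq_top
      rw [hT, ← MonoidHom.range_comp, MonoidHom.range_eq_map, sup_eq_right.2 e] at this
      simp [this] at hK
    obtain ⟨k, hk⟩ := eqv_top h2 i' h hn
    have c : ∀ x, Commute ((k : Q)⁻¹ * n) (χ x) := fun x => by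
      obtain ⟨y, -, e⟩ := nr_cj hn (mem_top x)
      have e' : (k : Q) * χ x * (k : Q)⁻¹ = χ y := congrArg Subtype.val (hk x y e)
      rw [Commute, SemiconjBy, mul_assoc, mul_inv_eq_iff_eq_mul.1 e, ← e']; group
    obtain ⟨m, hm⟩ : 2 ∣ orderOf ((k : Q)⁻¹ * n) := by_contra fun e => h1 (by
      obtain ⟨m, hm⟩ := Nat.odd_iff.2 (Nat.two_dvd_ne_zero.1 e)
      have e1 := pow_orderOf_eq_one ((k : Q)⁻¹ * n)
      rw [hm, pow_succ, pow_mul, mul_eq_one_iff_inv_eq] at e1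
      exact (mul_mem_cancel_left (inv_mem k.2)).1 (e1 ▸ inv_mem (pow_mem (sq_mem_of_index_two hK _) m)))
    have h0 : m ≠ 0 := fun e => (orderOf_pos _).ne' (by rw [hm, e])
    exact hc ((_ * n) ^ m) (by rw [orderOf_pow' _ h0, hm, Nat.gcd_mul_left_left, Nat.mul_div_cancel _
      (Nat.pos_of_ne_zero h0)]) _ i' fun x => (c x).pow_left m
  have D1 := dat h2 (cf_of i T hT)
  have D2 := dat h2 (cf_of i' T' hT')
  obtain ⟨N, a1, a2, a3⟩ := D1.nf c (l := 2) h2 two_cube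
  have b1 := (D1.nf3 a1 a2 a3).1
  have b2 := (D2.nf3 (N := N) (mem_cw.2 (le (mem_cw.1 a1))) (r _ a2) (r _ a3)).1
  have key : ¬ (Ty (WW χ) → Ty (WW ψ)) := fun h => ne fun M hM => by
    have e : N * (N⁻¹ * M * N) * N⁻¹ = M := by group
    rw [← e] at hM ⊢
    exact (b1 _).2 (((b2 _).1 hM).imp_right (And.imp_left h))
  obtain ⟨u, v, w, c1, c2, c3, c4⟩ := id c
  exact ⟨⟨_, _, ‹_›, χ, T', i', hT', ⟨u, v, w, r _ c1, r _ c2, r _ c3, c4⟩, (Classical.not_imp.1 key).1⟩,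
    _, _, inferInstance, ψ, T, i, hT, c, (Classical.not_imp.1 key).2⟩

theorem md_three : Md 3 Ty ∧ Md 3 fun W => ¬ Ty W := by
  obtain ⟨ψ, T, i, hT, c⟩ := three_tits
  obtain ⟨_, _, _, D⟩ := exists_titsData
  have := D.finite
  exact md_pair D.index (by rw [D.card]; norm_num) (fun _ a _ => cent_inv a) i hT c

theorem eqns_Ti : True := by
  have := @tiW.eq_1
  have := @tiX.eq_1
  trivial

end H39.RV
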